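import Groth.Agent.RatRes.K383.AbsFactor

/-!
# The dual factorization, abstractly; two-sided towers

* `exists_section`: if `R L ⟶ R R₂ L₂ L` factors through the identity, then, for `τ : R M ⟶ K` and
  `τ₂ : R₂ M' ⟶ M` universal, `R τ₂` factors through `τ' = R τ₂ ≫ τ : R R₂ M' ⟶ K`;
* `nonempty_iso_of_tower`: a tower which is alternately constant with two values.
-/

set_option autoImplicit false

universe v₁ v₂ v₃ v₄ u₁ u₂ u₃ u₄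

open CategoryTheory Category

namespace Groth.Agent.RatRes.K383.AbsDual

variable {D : Type u₁} [Category.{v₁} D] {E : Type u₂} [Category.{v₂} E]
  {L : D ⥤ E} {R : E ⥤ D} (adj : L ⊣ R)
  {F : Type u₃} [Category.{v₃} F] {L₂ : E ⥤ F} {R₂ : F ⥤ E} (adj₂ : L₂ ⊣ R₂)

include adj₂ in
theorem sigma_eq {M' : F} (σN : R.obj (L.obj (R.obj (R₂.obj M'))) ⟶ R.obj (R₂.obj M'))
    (h : σN ≫ adj.unit.app _ ≫ R.map (adj₂.unit.app (L.obj (R.obj (R₂.obj M')))) =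
      R.map (adj₂.unit.app (L.obj (R.obj (R₂.obj M'))))) :
    σN = R.map (adj.counit.app (R₂.obj M')) := by
  let ε := L₂.map (adj.counit.app (R₂.obj M')) ≫ adj₂.counit.app M'
  have h1 : adj₂.unit.app (L.obj (R.obj (R₂.obj M'))) ≫ R₂.map ε = adj.counit.app (R₂.obj M') := by
    have h2 := adj₂.unit.naturality (adj.counit.app (R₂.obj M'))
    dsimp at h2
    simp only [ε, Functor.map_comp]
    rw [← reassoc_of% h2, Adjunction.right_triangle_components, comp_id]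
  have h3 := congrArg (fun x => x ≫ R.map (R₂.map ε)) h
  dsimp at h3
  rw [assoc, assoc, ← R.map_comp, h1, Adjunction.right_triangle_components, comp_id] at h3
  exact h3

include adj₂ in
theorem exists_section {K : D} {M : E} {M' : F} (τ : R.obj M ⟶ K) (τ₂ : R₂.obj M' ⟶ M)
    (hsurj : ∀ g : R.obj (L.obj K) ⟶ K, ∃ φ : L.obj K ⟶ M, R.map φ ≫ τ = g)
    (hinj : ∀ φ ψ : L.obj (R.obj (R₂.obj M')) ⟶ M, R.map φ ≫ τ = R.map ψ ≫ τ → φ = ψ)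
    (σK : R.obj (L.obj K) ⟶ K) (hσK : adj.unit.app K ≫ σK = 𝟙 K)
    (σN : R.obj (L.obj (R.obj (R₂.obj M'))) ⟶ R.obj (R₂.obj M'))
    (h : σN ≫ adj.unit.app _ ≫ R.map (adj₂.unit.app (L.obj (R.obj (R₂.obj M')))) =
      R.map (adj₂.unit.app (L.obj (R.obj (R₂.obj M')))))
    (nat : R.map (L.map (R.map τ₂ ≫ τ)) ≫ σK = σN ≫ R.map τ₂ ≫ τ) :
    ∃ ψ : K ⟶ R.obj M, ψ ≫ τ = 𝟙 K ∧ R.map τ₂ ≫ τ ≫ ψ = R.map τ₂ := by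
  obtain ⟨φ, hφ⟩ := hsurj σK
  have hN := sigma_eq adj adj₂ σN h
  refine ⟨adj.unit.app K ≫ R.map φ, by rw [assoc, hφ, hσK], ?_⟩
  have h1 : L.map (R.map τ₂ ≫ τ) ≫ φ = adj.counit.app (R₂.obj M') ≫ τ₂ := by
    apply hinj
    rw [R.map_comp, assoc, hφ, nat, hN, R.map_comp, assoc]
  have h2 := adj.unit.naturality (R.map τ₂ ≫ τ)
  dsimp at h2
  rw [← assoc, ← assoc, h2, assoc, ← R.map_comp, h1, R.map_comp,
    Adjunction.right_triangle_components_assoc]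

/-- Two functors `P : C ⥤ CX`, `Q : C ⥤ CY`, then `F : CX ⥤ CS`, `G : CY ⥤ CS` with `P ⋙ F ≅ Q ⋙ G`, and a
tower `E₂ ⟶ E₁ ⟶ E₀` which becomes alternately constant in `CX` with value `DX` and in `CY` with value `DY`. -/
theorem nonempty_iso_of_tower {C : Type u₁} [Category.{v₁} C] {CX : Type u₂} [Category.{v₂} CX]
    {CY : Type u₃} [Category.{v₃} CY] {CS : Type u₄} [Category.{v₄} CS]
    {P : C ⥤ CX} {Q : C ⥤ CY} {F : CX ⥤ CS} {G : CY ⥤ CS} (e : P ⋙ F ≅ Q ⋙ G)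
    {E₀ E₁ E₂ : C} (T₀ : E₁ ⟶ E₀) (T₁ : E₂ ⟶ E₁) {DX : CX} {DY : CY} (τp : P.obj E₀ ⟶ DX)
    (τq : Q.obj E₀ ⟶ DY)
    (h₀ : ∃ ρ : DY ⟶ Q.obj E₀, Q.map T₀ ≫ τq ≫ ρ = Q.map T₀)
    (h₁ : ∃ σ : DX ⟶ P.obj E₁, σ ≫ P.map T₀ ≫ τp = 𝟙 DX ∧ P.map T₁ ≫ P.map T₀ ≫ τp ≫ σ = P.map T₁)
    (h₂ : ∃ ρ : DY ⟶ Q.obj E₂, ρ ≫ Q.map T₁ ≫ Q.map T₀ ≫ τq = 𝟙 DY) :
    Nonempty (F.obj DX ≅ G.obj DY) := by
  obtain ⟨ρ₀, hρ₀⟩ := h₀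
  obtain ⟨σ, hσ, hσ'⟩ := h₁
  obtain ⟨ρ₂, hρ₂⟩ := h₂
  have n₀ : F.map (P.map T₀) ≫ e.hom.app E₀ = e.hom.app E₁ ≫ G.map (Q.map T₀) := e.hom.naturality T₀
  have n₁ : G.map (Q.map T₁) ≫ e.inv.app E₁ = e.inv.app E₂ ≫ F.map (P.map T₁) := e.inv.naturality T₁
  have n₀' : G.map (Q.map T₀) ≫ e.inv.app E₀ = e.inv.app E₁ ≫ F.map (P.map T₀) := e.inv.naturality T₀
  have hi₁ : e.hom.app E₁ ≫ e.inv.app E₁ = 𝟙 _ := e.hom_inv_id_app E₁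
  have hi₀ : e.inv.app E₀ ≫ e.hom.app E₀ = 𝟙 _ := e.inv_hom_id_app E₀
  have hi₂ : e.inv.app E₂ ≫ e.hom.app E₂ = 𝟙 _ := e.inv_hom_id_app E₂
  let φ : F.obj DX ⟶ G.obj DY := F.map σ ≫ F.map (P.map T₀) ≫ e.hom.app E₀ ≫ G.map τq
  let ψ₀ : G.obj DY ⟶ F.obj DX := G.map ρ₀ ≫ e.inv.app E₀ ≫ F.map τp
  let ψ₂ : G.obj DY ⟶ F.obj DX := G.map ρ₂ ≫ e.inv.app E₂ ≫ F.map (P.map T₁ ≫ P.map T₀ ≫ τp)
  have h1 : φ ≫ ψ₀ = 𝟙 _ := by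
    have e1 : φ ≫ ψ₀ = F.map σ ≫ e.hom.app E₁ ≫ G.map (Q.map T₀ ≫ τq ≫ ρ₀) ≫ e.inv.app E₀ ≫ F.map τp := by
      simp only [φ, ψ₀, assoc, Functor.map_comp]
      rw [reassoc_of% n₀]
    rw [e1, hρ₀, reassoc_of% n₀', reassoc_of% hi₁, ← F.map_comp, ← F.map_comp, hσ, F.map_id]
  have h2 : ψ₂ ≫ φ = 𝟙 _ := by
    have e1 : ψ₂ ≫ φ = G.map ρ₂ ≫ e.inv.app E₂ ≫ F.map (P.map T₁ ≫ P.map T₀ ≫ τp ≫ σ) ≫
        F.map (P.map T₀) ≫ e.hom.app E₀ ≫ G.map τq := by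
      simp only [φ, ψ₂, assoc, Functor.map_comp]
    have n₁' : F.map (P.map T₁) ≫ e.hom.app E₁ = e.hom.app E₂ ≫ G.map (Q.map T₁) :=
      e.hom.naturality T₁
    rw [e1, hσ', reassoc_of% n₀, reassoc_of% n₁', reassoc_of% hi₂, ← G.map_comp, ← G.map_comp,
      ← G.map_comp, hρ₂, G.map_id]
  have h3 : ψ₂ = ψ₀ := by
    rw [← comp_id ψ₂, ← h1, reassoc_of% h2]
  exact ⟨⟨φ, ψ₀, h1, by rw [← h3, h2]⟩⟩

end Groth.Agent.RatRes.K383.AbsDual
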