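import Groth.Agent.PerfC.ProjMap

/-!
# Factoring `R₁ L₁ ⟶ R₁ R₂ L₂ L₁` through the identity, abstractly

`L₁ ⊣ R₁`, `L₂ ⊣ R₂` adjunctions between categories `D`, `E`, `F` with tensor products `T`, `T'`, `T''`
having (left) units `O`, `O'`, `O''`; `M₁`, `M₂` compatibilities of `L₁`, `L₂` with the tensor products.
If `R₁ (O' ⟶ R₂ O'')` factors through `O ⟶ R₁ R₂ O''` by `s : R₁ O' ⟶ O`, then `R₁ L₁ K ⟶ R₁ R₂ L₂ L₁ K`
factors through `K`, naturally in the `K` for which the projection map `T (R₁ O', K) ⟶ R₁ T' (O', L₁ K)`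
is an isomorphism.  No monoidality is needed: `M₁`, `M₂` are arbitrary natural transformations.
-/

set_option autoImplicit false

universe v₁ v₂ v₃ u₁ u₂ u₃

open CategoryTheory Category

namespace Groth.Agent.RatRes.K383.AbsFactor

open Groth.Agent.PerfC.ProjMap

variable {D : Type u₁} [Category.{v₁} D] {E : Type u₂} [Category.{v₂} E]
  {T : D ⥤ D ⥤ D} {T' : E ⥤ E ⥤ E} {L : D ⥤ E} {R : E ⥤ D} (adj : L ⊣ R)
  (M : T ⋙ (Functor.whiskeringRight _ _ _).obj L ⟶ L ⋙ T' ⋙ (Functor.whiskeringLeft _ _ _).obj L)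

/-- The projection map is natural in the first variable. -/
@[reassoc]
lemma theta_naturality {A A' : E} (a : A ⟶ A') (P : D) :
    (T.map (R.map a)).app P ≫ (theta adj M A').app P =
      (theta adj M A).app P ≫ R.map ((T'.map a).app (L.obj P)) := by
  rw [theta_app, theta_app]
  have h1 := adj.unit.naturality ((T.map (R.map a)).app P)
  have h2 := adj.counit.naturality a
  dsimp at h1 h2
  rw [reassoc_of% h1]
  simp only [assoc, ← R.map_comp]
  rw [Ma_nat₁_assoc, ← NatTrans.comp_app, ← T'.map_comp, h2, T'.map_comp, NatTrans.comp_app]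

section unit

variable {O : D} {O' : E} (l : T.obj O ≅ 𝟭 D) (l' : T'.obj O' ≅ 𝟭 E) (κ : L.obj O ≅ O')
  (hM : ∀ K : D, IsIso (Ma M O K))

/-- `O ⟶ R O'`. -/
def unitO : O ⟶ R.obj O' := adj.unit.app O ≫ R.map κ.hom

/-- The natural automorphism of `L` comparing the two maps `K ⟶ R L K`. -/
noncomputable def zeta : L ≅ L :=
  NatIso.ofComponents (fun K => L.mapIso (l.symm.app K) ≪≫ @asIso _ _ _ _ (Ma M O K) (hM K) ≪≫
    (T'.mapIso κ).app (L.obj K) ≪≫ l'.app (L.obj K)) (fun {K K'} u => by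
      have h1 := l.inv.naturality u
      have h2 := l'.hom.naturality (L.map u)
      have h3 := (T'.map κ.hom).naturality (L.map u)
      dsimp at h1 h2 h3 ⊢
      rw [← L.map_comp_assoc, h1, L.map_comp, assoc, Ma_nat₂_assoc, reassoc_of% h3, h2, assoc, assoc,
        assoc])

lemma zeta_hom_app (K : D) : (zeta M l l' κ hM).hom.app K =
    L.map (l.inv.app K) ≫ Ma M O K ≫ (T'.map κ.hom).app (L.obj K) ≫ l'.hom.app (L.obj K) := rfl

lemma key (K : D) : l.inv.app K ≫ (T.map (unitO adj κ)).app K ≫ (theta adj M O').app K ≫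
    R.map (l'.hom.app (L.obj K)) = adj.unit.app K ≫ R.map ((zeta M l l' κ hM).hom.app K) := by
  rw [theta_app, zeta_hom_app]
  have h0 := adj.unit.naturality (l.inv.app K)
  have h1 := adj.unit.naturality ((T.map (unitO adj κ)).app K)
  have h2 := adj.counit.naturality κ.hom
  dsimp at h0 h1 h2
  simp only [assoc]
  rw [reassoc_of% h1, reassoc_of% h0]
  simp only [← R.map_comp]
  rw [Ma_nat₁_assoc, ← NatTrans.comp_app_assoc, ← T'.map_comp, unitO, L.map_comp, assoc, h2,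
    Adjunction.left_triangle_components_assoc]

end unit

section factor

variable {F : Type u₃} [Category.{v₃} F] {T'' : F ⥤ F ⥤ F} {L₂ : E ⥤ F} {R₂ : F ⥤ E} (adj₂ : L₂ ⊣ R₂)
  (M₂ : T' ⋙ (Functor.whiskeringRight _ _ _).obj L₂ ⟶ L₂ ⋙ T'' ⋙ (Functor.whiskeringLeft _ _ _).obj L₂)
  {O : D} {O' : E} {O'' : F} (l : T.obj O ≅ 𝟭 D) (l' : T'.obj O' ≅ 𝟭 E) (l'' : T''.obj O'' ≅ 𝟭 F)
  (κ : L.obj O ≅ O') (κ₂ : L₂.obj O' ≅ O'')
  (hM : ∀ K : D, IsIso (Ma M O K)) (hM₂ : ∀ K : E, IsIso (Ma M₂ O' K))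
  (s : R.obj O' ⟶ O)

/-- The map `R L K ⟶ K` obtained from `s : R O' ⟶ O`. -/
noncomputable def sigma (K : D) [IsIso ((theta adj M O').app K)] : R.obj (L.obj K) ⟶ K :=
  R.map ((zeta M l l' κ hM).hom.app K) ≫ R.map (l'.inv.app (L.obj K)) ≫
    inv ((theta adj M O').app K) ≫ (T.map s).app K ≫ l.hom.app K

@[reassoc]
lemma sigma_naturality {K K' : D} [IsIso ((theta adj M O').app K)] [IsIso ((theta adj M O').app K')]
    (u : K ⟶ K') :
    R.map (L.map u) ≫ sigma adj M l l' κ hM s K' = sigma adj M l l' κ hM s K ≫ u := by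
  simp only [sigma, assoc]
  have h1 := (zeta M l l' κ hM).hom.naturality u
  have h2 := l'.inv.naturality (L.map u)
  have h3 := (theta adj M O').naturality u
  have h4 := (T.map s).naturality u
  have h5 := l.hom.naturality u
  dsimp at h1 h2 h3 h4 h5
  rw [← R.map_comp_assoc, h1, R.map_comp_assoc, ← R.map_comp_assoc (L.map u), h2, R.map_comp_assoc]
  congr 2
  rw [← h5, ← reassoc_of% h4, ← assoc, ← assoc (inv _) ((T.obj (R.obj O')).map u)]
  congr 1
  rw [IsIso.eq_inv_comp, ← assoc, IsIso.comp_inv_eq, h3]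

/-- `sigma` is a retraction of the unit. -/
@[reassoc]
lemma unit_sigma (hs : unitO adj κ ≫ s = 𝟙 _) (K : D) [IsIso ((theta adj M O').app K)] :
    adj.unit.app K ≫ sigma adj M l l' κ hM s K = 𝟙 K := by
  have h1 := key adj M l l' κ hM K
  rw [sigma, ← reassoc_of% h1]
  have h2 : R.map (l'.hom.app (L.obj K)) ≫ R.map (l'.inv.app (L.obj K)) = 𝟙 _ := by
    rw [← R.map_comp]
    simp
  rw [reassoc_of% h2, IsIso.hom_inv_id_assoc, ← NatTrans.comp_app_assoc (T.map _), ← T.map_comp, hs]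
  simp

include M₂ l'' hM₂ in
/-- `R L K ⟶ R R₂ L₂ L K` factors through `K`. -/
theorem sigma_factor
    (hs : s ≫ unitO adj κ ≫ R.map (unitO adj₂ κ₂) = R.map (unitO adj₂ κ₂))
    (K : D) [IsIso ((theta adj M O').app K)] :
    sigma adj M l l' κ hM s K ≫ adj.unit.app K ≫ R.map (adj₂.unit.app (L.obj K)) =
      R.map (adj₂.unit.app (L.obj K)) := by
  have k1 := key adj M l l' κ hM K
  have k2 := key adj₂ M₂ l' l'' κ₂ hM₂ (L.obj K)
  have n1 := theta_naturality adj M (unitO adj₂ κ₂) K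
  have z1 := adj₂.unit.naturality ((zeta M l l' κ hM).hom.app K)
  dsimp at z1
  have hll : R.map (l'.hom.app (L.obj K)) ≫ R.map (l'.inv.app (L.obj K)) = 𝟙 _ := by
    rw [← R.map_comp]
    simp
  -- `σ' ≫ unit ≫ R ζ ≫ t' = t'`
  let t := R.map (adj₂.unit.app (L.obj K))
  let z₂ := R.map (R₂.map ((zeta M₂ l' l'' κ₂ hM₂).hom.app (L.obj K)))
  let α := R.map (R₂.map (L₂.map ((zeta M l l' κ hM).hom.app K)))
  let σ' : R.obj (L.obj K) ⟶ K := R.map (l'.inv.app (L.obj K)) ≫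
    inv ((theta adj M O').app K) ≫ (T.map s).app K ≫ l.hom.app K
  have e1 : t ≫ z₂ = R.map (l'.inv.app (L.obj K)) ≫ R.map ((T'.map (unitO adj₂ κ₂)).app (L.obj K)) ≫
      R.map ((theta adj₂ M₂ O'').app (L.obj K)) ≫ R.map (R₂.map (l''.hom.app (L₂.obj (L.obj K)))) := by
    simp only [t, z₂, ← R.map_comp]
    rw [k2]
  have e2 : R.map ((T'.map (unitO adj₂ κ₂)).app (L.obj K)) =
      inv ((theta adj M O').app K) ≫ (T.map s).app K ≫ (T.map (unitO adj κ)).app K ≫
        (theta adj M O').app K ≫ R.map ((T'.map (unitO adj₂ κ₂)).app (L.obj K)) := by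
    rw [IsIso.eq_inv_comp, ← n1, ← NatTrans.comp_app_assoc, ← T.map_comp, ← NatTrans.comp_app_assoc,
      ← T.map_comp, assoc, hs]
  have hl : l.hom.app K ≫ l.inv.app K = 𝟙 _ := by simp
  have e3 : σ' ≫ adj.unit.app K ≫ R.map ((zeta M l l' κ hM).hom.app K) ≫ t ≫ z₂ = t ≫ z₂ := by
    rw [e1, ← reassoc_of% k1, reassoc_of% hll]
    simp only [σ', assoc]
    rw [reassoc_of% hl]
    congr 1
    conv_rhs => rw [e2]
    simp only [assoc]
  have e4 : σ' ≫ adj.unit.app K ≫ R.map ((zeta M l l' κ hM).hom.app K) ≫ t = t := by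
    rw [← cancel_mono z₂]
    simpa only [assoc] using e3
  have e5 : R.map ((zeta M l l' κ hM).hom.app K) ≫ t = t ≫ α := by
    simp only [t, α, ← R.map_comp]
    rw [z1]
  have e6 : R.map ((zeta M l l' κ hM).hom.app K) ≫ σ' ≫ adj.unit.app K ≫ t ≫ α = t ≫ α := by
    rw [← e5, e4]
  rw [← cancel_mono α]
  simpa only [sigma, σ', assoc] using e6

end factor

end Groth.Agent.RatRes.K383.AbsFactor
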