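import Groth.Agent.PerfA.HypPush2
import Groth.Agent.PerfC.RpushTrunc
import Groth.Agent.LoccohB.DQCohBasic
import Groth.Agent.LoccohB.RpushTri
import Groth.Agent.CurvesC.DerHom

/-!
# `Rf_*` for affine `f` is t-exact on quasi-coherent complexes
-/

set_option autoImplicit false

universe u

open CategoryTheory CategoryTheory.Limits AlgebraicGeometry Opposite TopologicalSpace Pretriangulated

attribute [local instance] HasDerivedCategory.standard

namespace Groth.Agent.RatRes.K383.AffExact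

open Groth.Agent.PerfA.ExtZero Groth.Agent.PerfA.Hyp0 Groth.Agent.PerfA.Hyp1 Groth.Agent.PerfA.Hyp2
open Groth.Agent.PerfA.HypBound Groth.Agent.PerfA.HypPush
open Groth.Agent.PerfA Groth.Agent.CurvesC.DerHom

variable {X S : Scheme.{u}}

/-- `Rf_*` is right t-exact for affine `f`. -/
theorem isLE_Rpush (f : X ⟶ S) [IsAffineHom f] [DCoh.HasRpush f]
    (E : DCoh.D X) (hE : DCoh.IsQCohD E) (a : ℤ) (ha : E.IsLE a) :
    ((DCoh.Rpush f).obj E).IsLE a := by
  refine (DerivedCategory.isLE_iff _ _).2 fun m hm => ?_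
  obtain ⟨L, hL, ⟨e⟩⟩ := LoccohB.RpushTri.exists_isKInjective_iso
    (LoccohB.RpushTri.hasKInj_modules X) E
  refine IsZero.of_iso ?_ ((DerivedCategory.homologyFunctor S.Modules m).mapIso
    ((DCoh.Rpush f).mapIso e) ≪≫ HypPush2.HDRpushIso f L hL m)
  rw [← HomologicalComplex.exactAt_iff_isZero_homology]
  refine exactAt_pushC f L hL m fun V x hx => ?_
  obtain ⟨W', hW', hxW', hle⟩ := exists_isAffineOpen_mem_and_subset (U := V) hx
  refine ⟨W', hle, hxW', fun φ => ?_⟩
  have hK : AffBij E := fun m U hU => HypAffine.toHD_bijective E hE U hU m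
  have h4 := hK.eq_zero_of_isZero (hW'.preimage f) (φ ≫ e.inv)
    (DerivedCategory.isZero_of_isLE E a m (by lia))
  rw [← cancel_mono e.inv, h4, zero_comp]

/-- For affine `f`, `H^i(Rf_* ξ) = 0` if `H^i(ξ) = 0`. -/
theorem map_eq_zero (f : X ⟶ S) [IsAffineHom f] [DCoh.HasRpush f] {A B : DCoh.D X}
    (hA : DCoh.IsQCohD A) (hB : DCoh.IsQCohD B) (ξ : A ⟶ B) (i : ℤ)
    (h : (DerivedCategory.homologyFunctor X.Modules i).map ξ = 0) :
    (DerivedCategory.homologyFunctor S.Modules i).map ((DCoh.Rpush f).map ξ) = 0 := by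
  obtain ⟨A₁, A₂, fA, gA, δA, hTA, hA₁, hA₂, -, -⟩ := LoccohB.DQCohBasic.exists_trunc_qcoh A hA i
  obtain ⟨B₁, B₂, fB, gB, δB, hTB, hB₁, hB₂, hB₁q, -⟩ := LoccohB.DQCohBasic.exists_trunc_qcoh B hB (i - 1)
  have hB₂' : B₂.IsGE i := by simpa using hB₂
  have h1 : fA ≫ ξ ≫ gB = 0 := by
    apply eq_zero_of_homology i
    rw [Functor.map_comp, Functor.map_comp, h, zero_comp, comp_zero]
  obtain ⟨w, hw⟩ := PerfC.RpushTrunc.exists_triangle f fA gA δA hTA
  obtain ⟨w', hw'⟩ := PerfC.RpushTrunc.exists_triangle f fB gB δB hTB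
  have hA₂' : ((DCoh.Rpush f).obj A₂).IsGE (i + 1) := PerfC.RpushTrunc.isGE_Rpush f A₂ (i + 1)
  have hB₁' : ((DCoh.Rpush f).obj B₁).IsLE (i - 1) := isLE_Rpush f B₁ hB₁q (i - 1) hB₁
  have e1 : Epi ((DerivedCategory.homologyFunctor S.Modules i).map ((DCoh.Rpush f).map fA)) :=
    (DerivedCategory.HomologySequence.epi_homologyMap_mor₁_iff _ hw i).2
      ((DerivedCategory.isZero_of_isGE ((DCoh.Rpush f).obj A₂) (i + 1) i (by lia)).eq_of_tgt _ _)
  have e2 : Mono ((DerivedCategory.homologyFunctor S.Modules i).map ((DCoh.Rpush f).map gB)) :=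
    (DerivedCategory.HomologySequence.mono_homologyMap_mor₂_iff _ hw' i).2
      ((DerivedCategory.isZero_of_isLE ((DCoh.Rpush f).obj B₁) (i - 1) i (by lia)).eq_of_src _ _)
  rw [← cancel_epi ((DerivedCategory.homologyFunctor S.Modules i).map ((DCoh.Rpush f).map fA)),
    ← cancel_mono ((DerivedCategory.homologyFunctor S.Modules i).map ((DCoh.Rpush f).map gB)),
    ← Functor.map_comp, ← Functor.map_comp, ← Functor.map_comp, ← Functor.map_comp, Category.assoc, h1,
    comp_zero, zero_comp]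
  have : ((DCoh.Rpush f).map (0 : A₁ ⟶ B₂)) = 0 := by
    obtain ⟨_, _, -⟩ := LoccohB.RpushTri.exists_isTriangulated_Rpush f
    exact Functor.map_zero _ _ _
  rw [this, Functor.map_zero]

end Groth.Agent.RatRes.K383.AffExact
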