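import Groth.Agent.Dual.H358.ShriekComp
import Groth.Agent.S0384
import Groth.Agent.Ega2.QCohLocal

/-!
# Dualizing objects `p^! O_S` of separated morphisms of finite type over a Noetherian base

`IsDC p D`: `D = p^! O_S`, computed through some compactification of `p : X ⟶ S`.
* `exists_isDC`, `IsDC.unique`, `IsDC.qcoh`, `IsDC.exists_isGE`;
* `IsDC.univ`: for `g : Y ⟶ X` proper, `(g ≫ p)^! O = g^! p^! O`;
* `IsDC.of_univ`, `IsDC.univ_of_proper`: the case of a proper `p`.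
-/

set_option autoImplicit false

universe u

open CategoryTheory CategoryTheory.Limits AlgebraicGeometry Pretriangulated

attribute [local instance] HasDerivedCategory.standard

namespace Groth.Agent.RatRes.K383.DC

open Groth.Agent.Dcoh.DerSch Groth.Agent.Ega1.ADualUniv Groth.Agent.Ega1.ADualOpen
open Groth.Agent.LoccohB
open Groth.Agent.PerfA.Restrict (restrictD)
open Groth.Agent.LoccohB.AdStruct (restrictDId isNoetherian_of_finiteType)
open Groth.Agent.Dual.H358.FUniv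

/-- `D = p^! O_S`, computed through some compactification of `p`. -/
def IsDC {X S : Scheme.{u}} (p : X ⟶ S) (D : DCoh.D X) : Prop :=
  ∃ (W : Scheme.{u}) (j : X ⟶ W) (_ : IsOpenImmersion j) (q : W ⟶ S) (_ : IsProper q)
    (_ : DCoh.HasRpush q) (M : DCoh.D W), j ≫ q = p ∧
      Univ q (DCoh.inD S (Coh.structureModule S)) M ∧ Nonempty ((restrictD j).obj M ≅ D)

variable {X Y S : Scheme.{u}}

/-- `O_X[0] ∈ D_QCoh(O_X)`. -/
lemma isQCohD_structure (X : Scheme.{u}) : DCoh.IsQCohD (DCoh.inD X (Coh.structureModule X)) :=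
  PerfA.QCohD.isQCohD_inD _ (Groth.Agent.Ega2.QCohLocal.isQCoh_structureModule X)

instance isGE_structure (X : Scheme.{u}) : (DCoh.inD X (Coh.structureModule X)).IsGE 0 :=
  inferInstanceAs (((DerivedCategory.singleFunctor X.Modules 0).obj _).IsGE 0)

/-- Functorial universal objects indexed by a point. -/
lemma funiv_of_univ {f : X ⟶ Y} [DCoh.HasRpush f] {K : DCoh.D Y} {L : DCoh.D X} (h : Univ f K L) :
    FUniv f (Functor.fromPUnit.{0} K) (Functor.fromPUnit.{0} L) := by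
  obtain ⟨τ, hτ⟩ := h
  refine ⟨{ app := fun _ => τ, naturality := ?_ }, fun _ => hτ⟩
  intro c d φ
  dsimp
  simp

/-- The comparison of two computations of `(g ≫ p)^!`, on one object. -/
theorem nonempty_iso {X Y Z Xf Yg Wb : Scheme.{u}} [IsNoetherian Z]
    (jf : X ⟶ Xf) [IsOpenImmersion jf] (f' : Xf ⟶ Y) [IsProper f'] (jg : Y ⟶ Yg)
    [IsOpenImmersion jg] (g' : Yg ⟶ Z) [IsProper g'] (jh : X ⟶ Wb) [IsOpenImmersion jh]
    (h' : Wb ⟶ Z) [IsProper h'] (hw : jh ≫ h' = jf ≫ f' ≫ jg ≫ g')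
    [DCoh.HasRpush f'] [DCoh.HasRpush g'] [DCoh.HasRpush h']
    {K : DCoh.D Z} (hK : DCoh.IsQCohD K) (hK' : ∃ n : ℤ, K.IsGE n)
    {M : DCoh.D Wb} (hM : Univ h' K M) {B : DCoh.D Yg} (hB : Univ g' K B)
    {A : DCoh.D Xf} (hA : Univ f' ((restrictD jg).obj B) A) :
    Nonempty ((restrictD jh).obj M ≅ (restrictD jf).obj A) := by
  obtain ⟨e⟩ := Groth.Agent.Dual.H358.ShriekComp.nonempty_iso (C := Discrete PUnit.{1}) jf f' jg g' jh h' hw
    (K := Functor.fromPUnit K) (fun _ => hK) (fun _ => hK') (funiv_of_univ hM) (funiv_of_univ hB)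
    (A := Functor.fromPUnit A) (by
      obtain ⟨τ, hτ⟩ := hA
      refine ⟨{ app := fun _ => τ, naturality := ?_ }, fun _ => hτ⟩
      intro c d φ
      dsimp
      simp)
  exact ⟨e.app ⟨⟨⟩⟩⟩

/-- Existence of `p^! O_S`. -/
theorem exists_isDC [IsNoetherian S] (p : X ⟶ S) [IsSeparated p] [QuasiCompact p]
    [LocallyOfFiniteType p] : ∃ D, IsDC p D := by
  obtain ⟨W, j, q, hj, -, hq, h⟩ := Groth.Agent.S0384.result p
  have hR := hasRpush q
  have : IsNoetherian W := isNoetherian_of_finiteType q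
  obtain ⟨M, hM⟩ := exists_univ q (DCoh.inD S (Coh.structureModule S)) (isQCohD_structure S)
  exact ⟨(restrictD j).obj M, W, j, hj, q, hq, hR, M, h, hM, ⟨Iso.refl _⟩⟩

lemma IsDC.qcoh {p : X ⟶ S} {D : DCoh.D X} (h : IsDC p D) : DCoh.IsQCohD D := by
  obtain ⟨W, j, hj, q, hq, hR, M, -, hM, ⟨e⟩⟩ := h
  exact (DCoh.IsQCohD (X := X)).prop_of_iso e (PerfA.QCohD.isQCohD_restrictD j hM.qcoh)

lemma IsDC.of_iso {p : X ⟶ S} {D D' : DCoh.D X} (h : IsDC p D) (e : D ≅ D') : IsDC p D' := by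
  obtain ⟨W, j, hj, q, hq, hR, M, hp, hM, ⟨e'⟩⟩ := h
  exact ⟨W, j, hj, q, hq, hR, M, hp, hM, ⟨e' ≪≫ e⟩⟩

lemma IsDC.exists_isGE [IsNoetherian S] {p : X ⟶ S} {D : DCoh.D X} (h : IsDC p D) : ∃ n : ℤ, D.IsGE n := by
  obtain ⟨W, j, hj, q, hq, hR, M, hp, hM, ⟨e⟩⟩ := h
  have : IsNoetherian W := isNoetherian_of_finiteType q
  obtain ⟨n, hn⟩ := AdStruct.exists_isGE q hM (isQCohD_structure S) 0 inferInstance
  have h2 : ((restrictD j).obj M).IsGE n := PerfA.ExactD.isGE_map _ _ _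
  exact ⟨n, (DerivedCategory.TStructure.t : Triangulated.TStructure _).isGE_of_iso e n⟩

/-- `(g ≫ p)^! O = g^! p^! O` for `g` proper. -/
theorem IsDC.univ [IsNoetherian S] {p : X ⟶ S} {D : DCoh.D X} (h : IsDC p D) (g : Y ⟶ X) [IsProper g]
    [DCoh.HasRpush g] {D' : DCoh.D Y} (h' : IsDC (g ≫ p) D') : Univ g D D' := by
  have hD' := h'.qcoh
  have hD := h.qcoh
  obtain ⟨W, j, hj, q, hq, hR, M, hp, hM, ⟨e⟩⟩ := h
  obtain ⟨W', j', hj', q', hq', hR', M', hp', hM', ⟨e'⟩⟩ := h'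
  have : IsNoetherian W := isNoetherian_of_finiteType q
  have : IsNoetherian X := isNoetherian_of_finiteType j
  have : IsNoetherian Y := isNoetherian_of_finiteType g
  obtain ⟨A, hA⟩ := exists_univ g D hD
  obtain ⟨e₁⟩ := nonempty_iso (𝟙 Y) g j q j' q' (by rw [hp', ← hp, Category.id_comp])
    (isQCohD_structure S) ⟨0, inferInstance⟩ hM' hM (hA.of_iso_right e.symm)
  exact hA.of_iso_left ((restrictDId Y).symm.app A ≪≫ e₁.symm ≪≫ e') hD'

/-- The case of a proper morphism. -/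
theorem IsDC.of_univ {p : X ⟶ S} [IsProper p] [DCoh.HasRpush p] {D : DCoh.D X}
    (h : Univ p (DCoh.inD S (Coh.structureModule S)) D) : IsDC p D :=
  ⟨X, 𝟙 X, inferInstance, p, inferInstance, inferInstance, D, Category.id_comp p, h,
    ⟨(restrictDId X).app D⟩⟩

theorem isDC_id (S : Scheme.{u}) : IsDC (𝟙 S) (DCoh.inD S (Coh.structureModule S)) := by
  have := hasRpush (𝟙 S)
  exact IsDC.of_univ (AdStruct.Univ.id (isQCohD_structure S))

/-- `p^! O` for a proper morphism is universal. -/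
theorem IsDC.univ_of_proper [IsNoetherian S] {p : X ⟶ S} [IsProper p] [DCoh.HasRpush p] {D : DCoh.D X}
    (h : IsDC p D) : Univ p (DCoh.inD S (Coh.structureModule S)) D :=
  (isDC_id S).univ p (by rwa [Category.comp_id])

/-- Uniqueness of `p^! O`. -/
theorem IsDC.unique [IsNoetherian S] {p : X ⟶ S} {D D' : DCoh.D X} (h : IsDC p D) (h' : IsDC p D') :
    Nonempty (D ≅ D') := by
  have := hasRpush (𝟙 X)
  have h1 : Univ (𝟙 X) D D' := h.univ (𝟙 X) (by rwa [Category.id_comp])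
  exact (AdStruct.Univ.id h.qcoh).unique h1

/-- Restriction to opens. -/
theorem IsDC.restrict {p : X ⟶ S} {D : DCoh.D X} (h : IsDC p D) {U : Scheme.{u}} (j : U ⟶ X)
    [IsOpenImmersion j] : IsDC (j ≫ p) ((restrictD j).obj D) := by
  obtain ⟨W, j', hj, q, hq, hR, M, hp, hM, ⟨e⟩⟩ := h
  exact ⟨W, j ≫ j', inferInstance, q, hq, hR, M, by rw [Category.assoc, hp], hM,
    ⟨((PerfA.PerfLocal.restrictDComp j j').symm.app M) ≪≫ (restrictD j).mapIso e⟩⟩

end Groth.Agent.RatRes.K383.DC
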