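import Groth.Agent.PerfB.FibreZero

/-!
# Higher direct images of modules from `Rf_*` of shifted modules

* `zero_and_iso`: if `Rf_* (F[d]) ≅ G[d]` then `R^p f_* F = 0` for `p > 0` and `f_* F ≅ G`.
-/

set_option autoImplicit false

universe u

open CategoryTheory CategoryTheory.Limits AlgebraicGeometry Pretriangulated

attribute [local instance] HasDerivedCategory.standard

namespace Groth.Agent.RatRes.K383.Degree

open Groth.Agent.PerfB Groth.Agent.Dcoh.DerSch

variable {X Y : Scheme.{u}} (f : X ⟶ Y) [DCoh.HasRpush f]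

/-- `Rf_*` commutes with shifts; cancel a shift. -/
theorem nonempty_unshift {F : X.Modules} {G : Y.Modules} (d : ℤ)
    (e : Nonempty ((DCoh.Rpush f).obj ((DCoh.inD X F)⟦d⟧) ≅ (DCoh.inD Y G)⟦d⟧)) :
    Nonempty ((DCoh.Rpush f).obj (DCoh.inD X F) ≅ DCoh.inD Y G) := by
  obtain ⟨e⟩ := e
  let _ := rpushCommShift f
  exact ⟨(shiftFunctor (DCoh.D Y) d).preimageIso
    ((((DCoh.Rpush f).commShiftIso d).app (DCoh.inD X F)).symm ≪≫ e)⟩

theorem zero_and_iso₀ [HasInjectiveResolutions X.Modules] {F : X.Modules} {G : Y.Modules}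
    (e : Nonempty ((DCoh.Rpush f).obj (DCoh.inD X F) ≅ DCoh.inD Y G)) :
    (∀ p : ℕ, 0 < p → IsZero ((Coh.Rpush f p).obj F)) ∧ Nonempty ((Coh.push f).obj F ≅ G) := by
  obtain ⟨e⟩ := e
  refine ⟨fun p hp => ?_, ⟨(H0Fibre.HDzero f F).symm ≪≫
    (DerivedCategory.homologyFunctor Y.Modules 0).mapIso e ≪≫ DegLoc.HDsg 0 G⟩⟩
  refine IsZero.of_iso ?_ ((PerfC.RpushSingle.iso f p F).symm ≪≫
    (DerivedCategory.homologyFunctor Y.Modules (p : ℤ)).mapIso e)
  have i2 : (DCoh.inD Y G).IsLE 0 :=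
    inferInstanceAs (((DerivedCategory.singleFunctor Y.Modules 0).obj _).IsLE 0)
  exact DerivedCategory.isZero_of_isLE _ 0 _ (by exact_mod_cast hp)

/-- If `Rf_* (F[d]) ≅ G[d]` then `R^p f_* F = 0` for `p > 0` and `f_* F ≅ G`. -/
theorem zero_and_iso [HasInjectiveResolutions X.Modules] {F : X.Modules} {G : Y.Modules} (d : ℤ)
    (e : Nonempty ((DCoh.Rpush f).obj ((DCoh.inD X F)⟦d⟧) ≅ (DCoh.inD Y G)⟦d⟧)) :
    (∀ p : ℕ, 0 < p → IsZero ((Coh.Rpush f p).obj F)) ∧ Nonempty ((Coh.push f).obj F ≅ G) :=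
  zero_and_iso₀ f (nonempty_unshift f d e)

/-- `Rf_* O_X ≅ O_Y` from the O-module statements. -/
theorem nonempty_rpush_structure [HasInjectiveResolutions X.Modules]
    (h : ∀ p : ℕ, 0 < p → IsZero ((Coh.Rpush f p).obj (Coh.structureModule X)))
    (h0 : IsIso (ClSub.unitToPush f)) :
    Nonempty ((DCoh.Rpush f).obj (DCoh.inD X (Coh.structureModule X)) ≅
      DCoh.inD Y (Coh.structureModule Y)) := by
  obtain ⟨e⟩ := FibreZero.nonempty_Rpush_inD f (Coh.structureModule X) h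
  exact ⟨e ≪≫ (DerivedCategory.singleFunctor Y.Modules 0).mapIso (asIso (ClSub.unitToPush f)).symm⟩

end Groth.Agent.RatRes.K383.Degree
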