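import Groth.Prelude.Def_Coh

/-!
# Endomorphisms of the structure sheaf commute
-/

set_option autoImplicit false

universe u

open CategoryTheory CategoryTheory.Limits AlgebraicGeometry

namespace Groth.Agent.RatRes.K383.EndO

variable {X : Scheme.{u}}

lemma app_eq (f : Coh.structureModule X ⟶ Coh.structureModule X) (U : X.Opens) (x : Γ(X, U)) :
    f.app U x = x • (f.app U (1 : Γ(X, U)) : Γ(Coh.structureModule X, U)) := by
  have h := f.app_smul x (1 : Γ(X, U))
  have h1 : (x • (1 : Γ(X, U)) : Γ(X, U)) = x := mul_one x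
  rw [← h]
  exact congrArg _ h1.symm

/-- Endomorphisms of `O_X` commute. -/
theorem comp_comm (f g : Coh.structureModule X ⟶ Coh.structureModule X) : f ≫ g = g ≫ f := by
  apply Scheme.Modules.hom_ext
  intro U
  ext x
  change g.app U (f.app U x) = f.app U (g.app U x)
  rw [app_eq g U (f.app U x), app_eq f U (g.app U x), app_eq f U x, app_eq g U x]
  have h : ∀ a b c : Γ(X, U), a * b * c = a * c * b := fun a b c => mul_right_comm a b c
  exact h x (f.app U (1 : Γ(X, U))) (g.app U (1 : Γ(X, U)))

/-- Commutativity of endomorphisms is invariant under isomorphism. -/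
theorem comm_of_iso {C : Type*} [Category C] {A B : C} (e : A ≅ B) (h : ∀ f g : A ⟶ A, f ≫ g = g ≫ f)
    (f g : B ⟶ B) : f ≫ g = g ≫ f := by
  have h1 := h (e.hom ≫ f ≫ e.inv) (e.hom ≫ g ≫ e.inv)
  simpa using e.inv ≫= h1 =≫ e.hom

end Groth.Agent.RatRes.K383.EndO
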