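import Groth.Agent.Dual.H360.ProjAff
import Groth.Agent.Ega1.ADualUniv
import Groth.Agent.PerfC.RpushSingle
import Groth.Agent.PerfB.FibreZero
import Groth.Agent.S0998
import Mathlib.CategoryTheory.Monad.Adjunction

/-!
# Direct images of dualizing objects under morphisms with `Rf_* O_X = O_Y`

* `isIso_unit`: if `Rf_* O_X ≅ O_Y` then `K ⟶ Rf_* Lf^* K` is an isomorphism for `K` in `D_QCoh(Y)`;
* `isIso_of_isUniv`: if moreover `τ : Rf_* L ⟶ K` is universal (`L = f^! K`), then `τ` is an isomorphism.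
-/

set_option autoImplicit false

universe u

open CategoryTheory CategoryTheory.Limits AlgebraicGeometry

attribute [local instance] HasDerivedCategory.standard

namespace Groth.Agent.RatRes.K383.PushUnit

open Groth.Agent.PerfC.LpullTens Groth.Agent.PerfC.DTens Groth.Agent.Dcoh.DerSch
  Groth.Agent.Dual.H360.ProjAff Groth.Agent.Ega1.ADualUniv

variable {X Y : Scheme.{u}}

/-- `Rf_* Lf^* K ≅ K` naturally in `K ∈ D_QCoh(Y)` if `Rf_* O_X ≅ O_Y`. -/
theorem nonempty_pullPush (f : X ⟶ Y) [QuasiCompact f] [QuasiSeparated f] [DCoh.HasRpush f] [DCoh.HasLpull f]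
    (h : Nonempty ((DCoh.Rpush f).obj (DCoh.inD X (Coh.structureModule X)) ≅
      DCoh.inD Y (Coh.structureModule Y))) :
    Nonempty (ObjectProperty.ι (DCoh.IsQCohD (X := Y)) ⋙ DCoh.Lpull f ⋙ DCoh.Rpush f ≅
      ObjectProperty.ι (DCoh.IsQCohD (X := Y))) := by
  obtain ⟨e⟩ := h
  exact ⟨Functor.isoWhiskerLeft _ (Functor.isoWhiskerLeft (DCoh.Lpull f)
      (Functor.isoWhiskerRight (unitIsoL X).symm (DCoh.Rpush f))) ≪≫
    (thetaIso f (isQCohD_unit X)).symm ≪≫
    Functor.isoWhiskerLeft _ ((LTX Y).mapIso (((DCoh.Rpush f).mapIso (inDIso _)).symm ≪≫ e ≪≫ inDIso _) ≪≫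
      unitIsoL Y) ≪≫ Functor.rightUnitor _⟩

/-- The unit `K ⟶ Rf_* Lf^* K` is an isomorphism on `D_QCoh(Y)` if `Rf_* O_X ≅ O_Y`. -/
theorem isIso_unit (f : X ⟶ Y) [QuasiCompact f] [QuasiSeparated f] [DCoh.HasRpush f] [DCoh.HasLpull f]
    (h : Nonempty ((DCoh.Rpush f).obj (DCoh.inD X (Coh.structureModule X)) ≅
      DCoh.inD Y (Coh.structureModule Y))) (K : DCoh.D Y) (hK : DCoh.IsQCohD K) :
    IsIso ((Groth.Agent.Dcoh.DerPull.lpullAdj f).unit.app K) := by
  obtain ⟨e⟩ := nonempty_pullPush f h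
  have hL := lpullPreserves f
  have hf : DCoh.RpushPreservesQCoh f := fun K hK => Groth.Agent.S0998.result f K hK
  let adj := pullPushQAdj f hL hf
  let i : Dual3.LpullQ f hL ⋙ DCoh.RpushQ f hf ≅ 𝟭 _ :=
    NatIso.ofComponents (fun K => (ObjectProperty.fullyFaithfulι _).preimageIso (e.app K)) (by
      intro K K' g
      apply (ObjectProperty.ι _).map_injective
      exact e.hom.naturality g)
  have := adj.isIso_unit_of_iso i
  have h2 : IsIso ((ObjectProperty.ι _).map (adj.unit.app ⟨K, hK⟩)) := inferInstance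
  have h3 := (Groth.Agent.Dcoh.DerPull.lpullAdj f).map_restrictFullyFaithful_unit_app
    (ObjectProperty.fullyFaithfulι (DCoh.IsQCohD (X := Y))) (ObjectProperty.fullyFaithfulι DCoh.IsQCohD)
    (L := Dual3.LpullQ f hL) (R := DCoh.RpushQ f hf) (Iso.refl _) (Iso.refl _) ⟨K, hK⟩
  have h4 : (ObjectProperty.ι _).map (adj.unit.app ⟨K, hK⟩) =
      (Groth.Agent.Dcoh.DerPull.lpullAdj f).unit.app K := by
    refine h3.trans ?_
    simp
  rw [← h4]
  exact h2

/-- If `Rf_* O_X ≅ O_Y` and `τ : Rf_* L ⟶ K` is universal, then `τ` is an isomorphism. -/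
theorem isIso_of_isUniv (f : X ⟶ Y) [QuasiCompact f] [QuasiSeparated f] [DCoh.HasRpush f] [DCoh.HasLpull f]
    (h : Nonempty ((DCoh.Rpush f).obj (DCoh.inD X (Coh.structureModule X)) ≅
      DCoh.inD Y (Coh.structureModule Y))) {K : DCoh.D Y} (hK : DCoh.IsQCohD K) {L : DCoh.D X}
    {τ : (DCoh.Rpush f).obj L ⟶ K} (hτ : IsUniv f K L τ) : IsIso τ := by
  have hbij : ∀ N : DCoh.D Y, DCoh.IsQCohD N →
      Function.Bijective (fun g : N ⟶ (DCoh.Rpush f).obj L => g ≫ τ) := by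
    intro N hN
    have := isIso_unit f h N hN
    have h1 := ((Groth.Agent.Dcoh.DerPull.lpullAdj f).homEquiv N L).symm.bijective
    have h2 := hτ.bij ((DCoh.Lpull f).obj N) (lpullPreserves f N hN)
    have h3 : Function.Bijective (fun g : (DCoh.Rpush f).obj ((DCoh.Lpull f).obj N) ⟶ K =>
        (Groth.Agent.Dcoh.DerPull.lpullAdj f).unit.app N ≫ g) :=
      ((asIso ((Groth.Agent.Dcoh.DerPull.lpullAdj f).unit.app N)).symm.homFromEquiv (Z := K)).bijective
    convert h3.comp (h2.comp h1) using 1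
    funext g
    have h4 := ((Groth.Agent.Dcoh.DerPull.lpullAdj f).homEquiv_unit (X := N) (Y := L)
      (f := ((Groth.Agent.Dcoh.DerPull.lpullAdj f).homEquiv N L).symm g)).symm
    rw [Equiv.apply_symm_apply] at h4
    simp only [Function.comp_apply]
    rw [← Category.assoc]
    exact congrArg (fun x => x ≫ τ) h4.symm
  have hL : DCoh.IsQCohD ((DCoh.Rpush f).obj L) := Groth.Agent.S0998.result f L hτ.qcoh
  obtain ⟨σ, hσ⟩ := (hbij K hK).2 (𝟙 K)
  dsimp only at hσ
  refine ⟨σ, (hbij _ hL).1 ?_, hσ⟩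
  simp only [Category.assoc, hσ, Category.comp_id, Category.id_comp]

end Groth.Agent.RatRes.K383.PushUnit
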