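import Groth.Agent.RatRes.K383.AbsDual
import Groth.Agent.RatRes.K383.PushUnit

/-!
# Good steps: factoring the trace of a dominating modification

`p : Z ⟶ X`, `h : Z' ⟶ Z`.  The step is good if `Rp_* O_Z ⟶ Rp_* Rh_* O_Z'` factors through `O_X`, compatibly
with the units.  Then, for `L = p^! K` and `L' = h^! L`, the trace `Rp_* Rh_* L' ⟶ Rp_* L` factors through `K`.

Performance: `O_X` is always written `DerivedCategory.Q.obj (unitCx X)`, without abbreviations (nested proofs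
abstracted in definitions make the kernel very slow here).
-/

set_option autoImplicit false

universe u

open CategoryTheory CategoryTheory.Limits AlgebraicGeometry

attribute [local instance] HasDerivedCategory.standard

namespace Groth.Agent.RatRes.K383.Fac

open Groth.Agent.PerfC.LpullTens Groth.Agent.PerfC.DTens Groth.Agent.Dcoh.DerSch
  Groth.Agent.Dual.H360.ProjAff Groth.Agent.Ega1.ADualUniv Groth.Agent.Dcoh.DerPull

variable {X Y Z Z' : Scheme.{u}}

/-- The step `h : Z' ⟶ Z` over `p : Z ⟶ X` is good. -/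
structure IsGood (h : Z' ⟶ Z) (p : Z ⟶ X) [DCoh.HasRpush h] [DCoh.HasLpull h] [DCoh.HasRpush p]
    [DCoh.HasLpull p] : Prop where
  ex : ∃ s : (DCoh.Rpush p).obj (DerivedCategory.Q.obj (unitCx Z)) ⟶ DerivedCategory.Q.obj (unitCx X),
    ((lpullAdj p).unit.app (DerivedCategory.Q.obj (unitCx X)) ≫ (DCoh.Rpush p).map (lpullUnit p).hom) ≫ s =
      𝟙 _ ∧
    s ≫ ((lpullAdj p).unit.app (DerivedCategory.Q.obj (unitCx X)) ≫ (DCoh.Rpush p).map (lpullUnit p).hom) ≫
      (DCoh.Rpush p).map ((lpullAdj h).unit.app (DerivedCategory.Q.obj (unitCx Z)) ≫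
        (DCoh.Rpush h).map (lpullUnit h).hom) =
      (DCoh.Rpush p).map ((lpullAdj h).unit.app (DerivedCategory.Q.obj (unitCx Z)) ≫
        (DCoh.Rpush h).map (lpullUnit h).hom)

lemma isIso_Ma (f : X ⟶ Y) [DCoh.HasLpull f] (F P : DCoh.D Y) :
    IsIso (Groth.Agent.PerfC.ProjMap.Ma (lpullTens f).hom F P) := by
  have h1 : IsIso ((lpullTens f).hom.app F) := inferInstance
  exact inferInstanceAs (IsIso (((lpullTens f).hom.app F).app P))

lemma isIso_theta (p : Z ⟶ X) [DCoh.HasRpush p] [DCoh.HasLpull p] [QuasiCompact p] [QuasiSeparated p]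
    (A : DCoh.D X) (hA : DCoh.IsQCohD A) :
    IsIso ((Groth.Agent.PerfC.ProjMap.theta (lpullAdj p) (lpullTens p).hom
      (DerivedCategory.Q.obj (unitCx Z))).app A) :=
  Groth.Agent.S1118.isIso_theta_app p (DerivedCategory.Q.obj (unitCx Z)) (isQCohD_unit Z) A hA

/-- For a good step, the trace `Rp_* Rh_* L' ⟶ Rp_* L` factors through `K`. -/
theorem exists_section (h : Z' ⟶ Z) (p : Z ⟶ X) [DCoh.HasRpush h] [DCoh.HasLpull h]
    [DCoh.HasRpush p] [DCoh.HasLpull p] [QuasiCompact p] [QuasiSeparated p] [QuasiCompact h]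
    [QuasiSeparated h]
    (s : (DCoh.Rpush p).obj (DerivedCategory.Q.obj (unitCx Z)) ⟶ DerivedCategory.Q.obj (unitCx X))
    (hs : ((lpullAdj p).unit.app (DerivedCategory.Q.obj (unitCx X)) ≫
      (DCoh.Rpush p).map (lpullUnit p).hom) ≫ s = 𝟙 _)
    (hs' : s ≫ ((lpullAdj p).unit.app (DerivedCategory.Q.obj (unitCx X)) ≫
        (DCoh.Rpush p).map (lpullUnit p).hom) ≫
      (DCoh.Rpush p).map ((lpullAdj h).unit.app (DerivedCategory.Q.obj (unitCx Z)) ≫
        (DCoh.Rpush h).map (lpullUnit h).hom) =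
      (DCoh.Rpush p).map ((lpullAdj h).unit.app (DerivedCategory.Q.obj (unitCx Z)) ≫
        (DCoh.Rpush h).map (lpullUnit h).hom))
    {K : DCoh.D X} (hK : DCoh.IsQCohD K) {L : DCoh.D Z}
    {τ : (DCoh.Rpush p).obj L ⟶ K} (hτ : IsUniv p K L τ) {L' : DCoh.D Z'}
    {τ₂ : (DCoh.Rpush h).obj L' ⟶ L} (hτ₂ : IsUniv h L L' τ₂) :
    ∃ ψ : K ⟶ (DCoh.Rpush p).obj L, ψ ≫ τ = 𝟙 K ∧
      (DCoh.Rpush p).map τ₂ ≫ τ ≫ ψ = (DCoh.Rpush p).map τ₂ := by
  have hN : DCoh.IsQCohD ((DCoh.Rpush p).obj ((DCoh.Rpush h).obj L')) :=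
    Groth.Agent.S0998.result p _ (Groth.Agent.S0998.result h L' hτ₂.qcoh)
  have := isIso_theta p K hK
  have := isIso_theta p _ hN
  refine AbsDual.exists_section (lpullAdj p) (lpullAdj h) τ τ₂
    (fun g => hτ.exists_lift (lpullPreserves p K hK) g)
    (fun φ ψ e => hτ.hom_ext (lpullPreserves p _ hN) e)
    (AbsFactor.sigma (lpullAdj p) (lpullTens p).hom (unitIsoL X) (unitIsoL Z) (lpullUnit p)
      (isIso_Ma p (DerivedCategory.Q.obj (unitCx X))) s K)
    (AbsFactor.unit_sigma (lpullAdj p) (lpullTens p).hom (unitIsoL X) (unitIsoL Z) (lpullUnit p)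
      (isIso_Ma p (DerivedCategory.Q.obj (unitCx X))) s hs K)
    (AbsFactor.sigma (lpullAdj p) (lpullTens p).hom (unitIsoL X) (unitIsoL Z) (lpullUnit p)
      (isIso_Ma p (DerivedCategory.Q.obj (unitCx X))) s _)
    (AbsFactor.sigma_factor (lpullAdj p) (lpullTens p).hom (lpullAdj h) (lpullTens h).hom
      (unitIsoL X) (unitIsoL Z) (unitIsoL Z') (lpullUnit p) (lpullUnit h)
      (isIso_Ma p (DerivedCategory.Q.obj (unitCx X))) (isIso_Ma h (DerivedCategory.Q.obj (unitCx Z)))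
      s hs' _)
    (AbsFactor.sigma_naturality (lpullAdj p) (lpullTens p).hom (unitIsoL X) (unitIsoL Z)
      (lpullUnit p) (isIso_Ma p (DerivedCategory.Q.obj (unitCx X))) s _)

end Groth.Agent.RatRes.K383.Fac
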