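import Groth.Agent.RatRes.K383.Kill
import Groth.Agent.RatRes.K383.Fac
import Groth.Agent.RatRes.K383.EndO
import Groth.Agent.Dcoh.DerPush2
import Groth.Agent.PerfB.H0Fibre
import Groth.Agent.S0999

/-!
# Good modifications from modifications killing higher direct images
-/

set_option autoImplicit false

universe u

open CategoryTheory CategoryTheory.Limits AlgebraicGeometry Pretriangulated

attribute [local instance] HasDerivedCategory.standard

namespace Groth.Agent.RatRes.K383.GenSch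

open Groth.Agent.PerfC.LpullTens Groth.Agent.PerfC.DTens Groth.Agent.Dcoh.DerSch
  Groth.Agent.Dual.H360.ProjAff Groth.Agent.Ega1.ADualUniv Groth.Agent.Dcoh.DerPull
  Groth.Agent.RatRes.K383.Gen Groth.Agent.RatRes.K383.Kill Groth.Agent.RatRes.K383.Trunc

variable {X Y Z Z' : Scheme.{u}}

/-- The unit is a generator of `Rf_*`. -/
theorem isGen (f : X ⟶ Y) [DCoh.HasRpush f] [DCoh.HasLpull f] :
    IsGen (DCoh.Rpush f) (DerivedCategory.Q.obj (unitCx X)) (DerivedCategory.Q.obj (unitCx Y))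
      ((lpullAdj f).unit.app (DerivedCategory.Q.obj (unitCx Y)) ≫ (DCoh.Rpush f).map (lpullUnit f).hom) :=
  isGen_of_adj (lpullAdj f) (lpullUnit f)

/-- Good steps in the sense of `Fac`. -/
theorem isGood_of (h : Z' ⟶ Z) (p : Z ⟶ X) [DCoh.HasRpush h] [DCoh.HasLpull h] [DCoh.HasRpush p]
    [DCoh.HasLpull p] (hG : IsGoodG (DCoh.Rpush p) (DCoh.Rpush h) (DerivedCategory.Q.obj (unitCx Z))
      (DerivedCategory.Q.obj (unitCx X))) : Fac.IsGood h p := by
  obtain ⟨s, hs, hs'⟩ := hG _ (isGen p)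
  exact ⟨s, hs, hs' _ _⟩

/-- `h` kills the higher direct images of `O_Z` under `p`. -/
structure Kills (h : Z' ⟶ Z) (p : Z ⟶ X) [DCoh.HasRpush h] [DCoh.HasRpush p] : Prop where
  zero : ∀ (K : DCoh.D Z') (φ : DerivedCategory.Q.obj (unitCx Z) ⟶ (DCoh.Rpush h).obj K) (i : ℤ), 0 < i →
    (DerivedCategory.homologyFunctor X.Modules i).map ((DCoh.Rpush p).map φ) = 0

lemma isLE_unit (X : Scheme.{u}) : (DerivedCategory.Q.obj (unitCx X)).IsLE 0 := by
  have h : (DCoh.inD X (Coh.structureModule X)).IsLE 0 :=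
    inferInstanceAs (((DerivedCategory.singleFunctor X.Modules 0).obj _).IsLE 0)
  exact (DerivedCategory.TStructure.t : Triangulated.TStructure _).isLE_of_iso
    (inDIso (Coh.structureModule X)) 0

lemma isGE_unit (X : Scheme.{u}) : (DerivedCategory.Q.obj (unitCx X)).IsGE 0 := by
  have h : (DCoh.inD X (Coh.structureModule X)).IsGE 0 :=
    inferInstanceAs (((DerivedCategory.singleFunctor X.Modules 0).obj _).IsGE 0)
  exact (DerivedCategory.TStructure.t : Triangulated.TStructure _).isGE_of_iso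
    (inDIso (Coh.structureModule X)) 0

/-- `H^0(O_X) ≅ O_X`. -/
theorem nonempty_H0_unit (X : Scheme.{u}) :
    Nonempty ((DerivedCategory.homologyFunctor X.Modules 0).obj (DerivedCategory.Q.obj (unitCx X)) ≅
      Coh.structureModule X) :=
  ⟨(DerivedCategory.homologyFunctor X.Modules 0).mapIso (inDIso (Coh.structureModule X)).symm ≪≫
    (DerivedCategory.singleFunctorCompHomologyFunctorIso X.Modules 0).app _⟩

/-- `H^0(Rf_* O_X) ≅ f_* O_X`. -/
theorem nonempty_H0_push (f : X ⟶ Y) [DCoh.HasRpush f] :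
    Nonempty ((DerivedCategory.homologyFunctor Y.Modules 0).obj
      ((DCoh.Rpush f).obj (DerivedCategory.Q.obj (unitCx X))) ≅ (Coh.push f).obj (Coh.structureModule X)) :=
  ⟨(DerivedCategory.homologyFunctor Y.Modules 0).mapIso
      ((DCoh.Rpush f).mapIso (inDIso (Coh.structureModule X)).symm) ≪≫ PerfB.H0Fibre.HDzero f _⟩

theorem comm_H0_unit (X : Scheme.{u})
    (f g : (DerivedCategory.homologyFunctor X.Modules 0).obj (DerivedCategory.Q.obj (unitCx X)) ⟶
      (DerivedCategory.homologyFunctor X.Modules 0).obj (DerivedCategory.Q.obj (unitCx X))) :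
    f ≫ g = g ≫ f := by
  obtain ⟨e⟩ := nonempty_H0_unit X
  exact EndO.comm_of_iso e.symm EndO.comp_comm f g

/-- Good steps from factorizations through degrees `≤ 0`. -/
theorem isGoodG_of_facLE (h : Z' ⟶ Z) (p : Z ⟶ X) [DCoh.HasRpush h] [DCoh.HasLpull h] [DCoh.HasRpush p]
    [DCoh.HasLpull p]
    (hfac : FacLE 0 ((DCoh.Rpush p).map ((lpullAdj h).unit.app (DerivedCategory.Q.obj (unitCx Z)) ≫
      (DCoh.Rpush h).map (lpullUnit h).hom)))
    (hO : Nonempty ((Coh.push (h ≫ p)).obj (Coh.structureModule Z') ≅ Coh.structureModule X)) :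
    IsGoodG (DCoh.Rpush p) (DCoh.Rpush h) (DerivedCategory.Q.obj (unitCx Z))
      (DerivedCategory.Q.obj (unitCx X)) := by
  have := isLE_unit X
  have := isGE_unit X
  have h1 := isGE_unit Z'
  have h2 : ((DCoh.Rpush p).obj ((DCoh.Rpush h).obj (DerivedCategory.Q.obj (unitCx Z')))).IsGE 0 := by
    have := PerfC.RpushTrunc.isGE_Rpush h (DerivedCategory.Q.obj (unitCx Z')) 0
    exact PerfC.RpushTrunc.isGE_Rpush p _ 0
  have : DCoh.HasRpush (h ≫ p) := hasRpush _
  obtain ⟨e0⟩ := nonempty_H0_push (h ≫ p)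
  obtain ⟨e1⟩ := nonempty_H0_unit X
  obtain ⟨e2⟩ := hO
  exact Kill.isGoodG_of_facLE (isGen p) (isGen h) hfac
    ((DerivedCategory.homologyFunctor X.Modules 0).mapIso
      ((rpushComp h p).app (DerivedCategory.Q.obj (unitCx Z'))) ≪≫ e0 ≪≫ e2 ≪≫ e1.symm)
    (comm_H0_unit X)

/-- Killing `H^n` once more. -/
theorem facLE_step {Z'' : Scheme.{u}} (h' : Z'' ⟶ Z') (h : Z' ⟶ Z) (p : Z ⟶ X) [DCoh.HasRpush h'] [DCoh.HasRpush h]
    [DCoh.HasLpull h] [DCoh.HasRpush p] [DCoh.HasRpush (h' ≫ h)] [DCoh.HasRpush (h ≫ p)] {n : ℤ} (hn : 0 < n)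
    (hfac : ∀ (K : DCoh.D Z') (φ : DerivedCategory.Q.obj (unitCx Z) ⟶ (DCoh.Rpush h).obj K),
      FacLE n ((DCoh.Rpush p).map φ)) (hk : Kills h' (h ≫ p)) (K : DCoh.D Z'')
    (φ : DerivedCategory.Q.obj (unitCx Z) ⟶ (DCoh.Rpush (h' ≫ h)).obj K) :
    FacLE (n - 1) ((DCoh.Rpush p).map φ) := by
  have key := Kill.facLE_step (H' := DCoh.Rpush h') (isGen h) (hfac _ _) (fun K φ => ?_) K
    (φ ≫ (rpushComp h' h).inv.app K)
  · have h1 : φ = (φ ≫ (rpushComp h' h).inv.app K) ≫ (rpushComp h' h).hom.app K := by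
      rw [Category.assoc, Iso.inv_hom_id_app, Category.comp_id]
    rw [h1, Functor.map_comp]
    exact key.comp _
  · have h2 := hk.zero K φ n hn
    have h3 := (rpushComp h p).hom.naturality φ
    have h4 : (DCoh.Rpush h ⋙ DCoh.Rpush p).map φ =
        (rpushComp h p).hom.app _ ≫ (DCoh.Rpush (h ≫ p)).map φ ≫ (rpushComp h p).inv.app _ := by
      rw [← reassoc_of% h3, Iso.hom_inv_id_app]
      exact (Category.comp_id _).symm
    rw [h4, Functor.map_comp, Functor.map_comp, h2, zero_comp, comp_zero]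

/-- A cohomological bound for `Rp_* O_Z`. -/
theorem exists_bound (p : Z ⟶ X) [QuasiCompact p] [QuasiSeparated p] [CompactSpace X] [DCoh.HasRpush p] :
    ∃ N : ℕ, ((DCoh.Rpush p).obj (DerivedCategory.Q.obj (unitCx Z))).IsLE N := by
  obtain ⟨N, hN⟩ := Groth.Agent.S0999.result p
  have h0 : (DerivedCategory.Q.obj (unitCx Z)).IsLE 0 := isLE_unit Z
  refine ⟨N.toNat, ?_⟩
  rw [DerivedCategory.isLE_iff]
  intro i hi
  exact hN _ (isQCohD_unit Z) h0 i ((Int.self_le_toNat N).trans hi.le)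

end Groth.Agent.RatRes.K383.GenSch
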