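import Groth.Agent.RatRes.K383.Fac
import Groth.Agent.RatRes.K383.DC
import Groth.Agent.Dcoh.DerPush2

/-!
# Dualizing objects of properly birational schemes

`p : Z₀ ⟶ X`, `q : Z₀ ⟶ Y` over `S` (`p ≫ f = q ≫ g`) and a tower `Z₃ ⟶ Z₂ ⟶ Z₁ ⟶ Z₀` of proper morphisms which
is good at `Z₁` for `X` and at `Z₀`, `Z₂` for `Y`.  Then `Rf_* D_X ≅ Rg_* D_Y`.
-/

set_option autoImplicit false

universe u

open CategoryTheory CategoryTheory.Limits AlgebraicGeometry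

attribute [local instance] HasDerivedCategory.standard

namespace Groth.Agent.RatRes.K383.Tower

open Groth.Agent.PerfC.LpullTens Groth.Agent.PerfC.DTens Groth.Agent.Dcoh.DerSch
  Groth.Agent.Ega1.ADualUniv Groth.Agent.Dcoh.DerPull
open Groth.Agent.RatRes.K383.DC Groth.Agent.RatRes.K383.Fac

variable {X Y Z Z' S T : Scheme.{u}}

/-- Composition of universal morphisms, explicit form. -/
lemma isUniv_comp {f : X ⟶ Y} {g : Y ⟶ Z} [DCoh.HasRpush f] [DCoh.HasRpush g] {fg : X ⟶ Z}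
    [DCoh.HasRpush fg] (θ : DCoh.Rpush fg ≅ DCoh.Rpush f ⋙ DCoh.Rpush g)
    (hf : ∀ N : DCoh.D X, DCoh.IsQCohD N → DCoh.IsQCohD ((DCoh.Rpush f).obj N))
    {W : DCoh.D Z} {K : DCoh.D Y} {L : DCoh.D X} {σ : (DCoh.Rpush g).obj K ⟶ W}
    {τ : (DCoh.Rpush f).obj L ⟶ K} (h₁ : IsUniv g W K σ) (h₂ : IsUniv f K L τ) :
    IsUniv fg W L (θ.hom.app L ≫ (DCoh.Rpush g).map τ ≫ σ) := by
  refine ⟨h₂.qcoh, fun N hN => ?_⟩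
  have e2 := h₂.bij N hN
  have e1 := h₁.bij _ (hf N hN)
  have e3 : Function.Bijective (fun g' : (DCoh.Rpush g).obj ((DCoh.Rpush f).obj N) ⟶ W =>
      θ.hom.app N ≫ g') := ((θ.app N).symm.homFromEquiv (Z := W)).bijective
  convert e3.comp (e1.comp e2) using 1
  funext u
  have := θ.hom.naturality u
  simp only [Function.comp_apply, Functor.comp_map] at this ⊢
  rw [reassoc_of% this, Functor.map_comp, Category.assoc]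

/-- Transport of a section along `R(p')_* ≅ P`. -/
theorem transport {p' : Z ⟶ X} [DCoh.HasRpush p'] {P : DCoh.D Z ⥤ DCoh.D X}
    (θ : DCoh.Rpush p' ≅ P) {E E' : DCoh.D Z} {D : DCoh.D X} (τ : P.obj E ⟶ D) (t : E' ⟶ E)
    (h : ∃ ψ : D ⟶ (DCoh.Rpush p').obj E, ψ ≫ θ.hom.app E ≫ τ = 𝟙 D ∧
      (DCoh.Rpush p').map t ≫ (θ.hom.app E ≫ τ) ≫ ψ = (DCoh.Rpush p').map t) :
    ∃ ψ : D ⟶ P.obj E, ψ ≫ τ = 𝟙 D ∧ P.map t ≫ τ ≫ ψ = P.map t := by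
  obtain ⟨ψ, h1, h2⟩ := h
  refine ⟨ψ ≫ θ.hom.app E, by rw [Category.assoc, h1], ?_⟩
  have n1 := θ.inv.naturality t
  have h3 : θ.inv.app E' ≫ ((DCoh.Rpush p').map t ≫ (θ.hom.app E ≫ τ) ≫ ψ) ≫ θ.hom.app E =
      θ.inv.app E' ≫ (DCoh.Rpush p').map t ≫ θ.hom.app E := by rw [h2]
  have h4 : θ.inv.app E ≫ θ.hom.app E = 𝟙 _ := θ.inv_hom_id_app E
  simp only [Category.assoc] at h3
  rw [← reassoc_of% n1, reassoc_of% h4, ← reassoc_of% n1, h4, Category.comp_id] at h3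
  exact h3

lemma nonempty_congr {f f' : X ⟶ Y} (e : f = f') [DCoh.HasRpush f] [DCoh.HasRpush f'] :
    Nonempty (DCoh.Rpush f ≅ DCoh.Rpush f') := by
  subst e
  exact ⟨Iso.refl _⟩

/-- **Dualizing objects of properly birational schemes**, given a good tower. -/
theorem main [IsNoetherian T] {Z₀ Z₁ Z₂ Z₃ : Scheme.{u}} (f : X ⟶ S) (g : Y ⟶ S) (a : X ⟶ T)
    (b : Y ⟶ T) (p : Z₀ ⟶ X) (q : Z₀ ⟶ Y) (h₀ : Z₁ ⟶ Z₀) (h₁ : Z₂ ⟶ Z₁) (h₂ : Z₃ ⟶ Z₂)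
    [IsProper p] [IsProper q] [IsProper h₀] [IsProper h₁] [IsProper h₂]
    (w : p ≫ f = q ≫ g) (wT : p ≫ a = q ≫ b) [IsSeparated a] [QuasiCompact a] [LocallyOfFiniteType a]
    [DCoh.HasRpush f] [DCoh.HasRpush g]
    [DCoh.HasRpush h₀] [DCoh.HasRpush h₁] [DCoh.HasRpush h₂] [DCoh.HasRpush q]
    [DCoh.HasLpull h₀] [DCoh.HasLpull h₁] [DCoh.HasLpull h₂] [DCoh.HasLpull q]
    [DCoh.HasRpush (h₀ ≫ p)] [DCoh.HasLpull (h₀ ≫ p)]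
    [DCoh.HasRpush (h₁ ≫ h₀ ≫ q)] [DCoh.HasLpull (h₁ ≫ h₀ ≫ q)]
    (good₀ : IsGood h₀ q) (good₁ : IsGood h₁ (h₀ ≫ p)) (good₂ : IsGood h₂ (h₁ ≫ h₀ ≫ q))
    {DX : DCoh.D X} {DY : DCoh.D Y} (hDX : IsDC a DX) (hDY : IsDC b DY) :
    Nonempty ((DCoh.Rpush f).obj DX ≅ (DCoh.Rpush g).obj DY) := by
  have := hasRpush p
  have := hasRpush (p ≫ f)
  have := hasRpush (q ≫ g)
  have := hasRpush (h₀ ≫ q)
  obtain ⟨D₀, hD₀⟩ := exists_isDC (p ≫ a)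
  obtain ⟨D₁, hD₁⟩ := exists_isDC (h₀ ≫ p ≫ a)
  obtain ⟨D₂, hD₂⟩ := exists_isDC (h₁ ≫ h₀ ≫ p ≫ a)
  obtain ⟨D₃, hD₃⟩ := exists_isDC (h₂ ≫ h₁ ≫ h₀ ≫ p ≫ a)
  obtain ⟨τp, hτp⟩ := hDX.univ p hD₀
  obtain ⟨τq, hτq⟩ := hDY.univ q (wT ▸ hD₀)
  obtain ⟨τ₀, hτ₀⟩ := hD₀.univ h₀ hD₁
  obtain ⟨τ₁, hτ₁⟩ := hD₁.univ h₁ hD₂
  obtain ⟨τ₂, hτ₂⟩ := hD₂.univ h₂ hD₃
  -- the commutation isomorphism
  obtain ⟨e⟩ : Nonempty (DCoh.Rpush p ⋙ DCoh.Rpush f ≅ DCoh.Rpush q ⋙ DCoh.Rpush g) := by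
    obtain ⟨e⟩ := nonempty_congr w
    exact ⟨rpushComp p f ≪≫ e ≪≫ (rpushComp q g).symm⟩
  -- the three sections
  obtain ⟨s₀, hs₀, hs₀'⟩ := good₀.ex
  obtain ⟨s₁, hs₁, hs₁'⟩ := good₁.ex
  obtain ⟨s₂, hs₂, hs₂'⟩ := good₂.ex
  obtain ⟨ρ₀, -, hρ₀⟩ := exists_section h₀ q s₀ hs₀ hs₀' hDY.qcoh hτq hτ₀
  let θ₁ : DCoh.Rpush (h₀ ≫ p) ≅ DCoh.Rpush h₀ ⋙ DCoh.Rpush p := (rpushComp h₀ p).symm
  have hu₁ := isUniv_comp θ₁ (fun N hN => Groth.Agent.S0998.result h₀ N hN) hτp hτ₀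
  obtain ⟨σ, hσ, hσ'⟩ := transport θ₁ ((DCoh.Rpush p).map τ₀ ≫ τp) τ₁
    (exists_section h₁ (h₀ ≫ p) s₁ hs₁ hs₁' hDX.qcoh hu₁ hτ₁)
  let θ₂ : DCoh.Rpush (h₀ ≫ q) ≅ DCoh.Rpush h₀ ⋙ DCoh.Rpush q := (rpushComp h₀ q).symm
  let θ₃ : DCoh.Rpush (h₁ ≫ h₀ ≫ q) ≅ DCoh.Rpush h₁ ⋙ DCoh.Rpush (h₀ ≫ q) :=
    (rpushComp h₁ (h₀ ≫ q)).symm
  have hu₂ := isUniv_comp θ₂ (fun N hN => Groth.Agent.S0998.result h₀ N hN) hτq hτ₀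
  have hu₃ := isUniv_comp θ₃ (fun N hN => Groth.Agent.S0998.result h₁ N hN) hu₂ hτ₁
  let θ : DCoh.Rpush (h₁ ≫ h₀ ≫ q) ≅ DCoh.Rpush h₁ ⋙ DCoh.Rpush h₀ ⋙ DCoh.Rpush q :=
    θ₃ ≪≫ Functor.isoWhiskerLeft (DCoh.Rpush h₁) θ₂
  have hθ : θ₃.hom.app D₂ ≫ (DCoh.Rpush (h₀ ≫ q)).map τ₁ ≫ θ₂.hom.app D₁ ≫
      (DCoh.Rpush q).map τ₀ ≫ τq = θ.hom.app D₂ ≫ (DCoh.Rpush q).map ((DCoh.Rpush h₀).map τ₁) ≫
        (DCoh.Rpush q).map τ₀ ≫ τq := by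
    have n := θ₂.hom.naturality τ₁
    simp only [Functor.comp_map] at n
    simp only [θ, Iso.trans_hom, Functor.isoWhiskerLeft_hom, NatTrans.comp_app,
      Functor.whiskerLeft_app, Category.assoc]
    rw [reassoc_of% n]
  rw [hθ] at hu₃
  obtain ⟨ρ₂, hρ₂, -⟩ := transport θ
    ((DCoh.Rpush q).map ((DCoh.Rpush h₀).map τ₁) ≫ (DCoh.Rpush q).map τ₀ ≫ τq) τ₂
    (exists_section h₂ (h₁ ≫ h₀ ≫ q) s₂ hs₂ hs₂' hDY.qcoh hu₃ hτ₂)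
  exact AbsDual.nonempty_iso_of_tower e (E₀ := D₀) (E₁ := (DCoh.Rpush h₀).obj D₁)
    (E₂ := (DCoh.Rpush h₀).obj ((DCoh.Rpush h₁).obj D₂)) τ₀ ((DCoh.Rpush h₀).map τ₁) τp τq
    ⟨ρ₀, hρ₀⟩ ⟨σ, hσ, by simpa only [Category.assoc, Functor.comp_map] using hσ'⟩ ⟨ρ₂, hρ₂⟩

end Groth.Agent.RatRes.K383.Tower
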