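import Groth.Agent.RatRes.K383.AffExact
import Groth.Agent.RatRes.K383.GenSch
import Groth.Agent.RatRes.K383.Tower
import Groth.Agent.PerfB.FibreZero
import Groth.Agent.PerfC.AffPushD
import Groth.Agent.Ega2.QCohLocal

/-!
# Killing higher direct images through a finite cover with a trace

* `kills_of_finite`: transport of `Kills` along `W'' ⟶ W'` finite such that `O_W'` is a direct factor of
  `Ra'_* O_W''`.
* `exists_retraction_of_finite`: the splitting from a retraction of `O_W' ⟶ a'_* O_W''`.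
-/

set_option autoImplicit false

universe u

open CategoryTheory CategoryTheory.Limits AlgebraicGeometry Pretriangulated

attribute [local instance] HasDerivedCategory.standard

namespace Groth.Agent.RatRes.K383.FiniteKill

open Groth.Agent.PerfC.LpullTens Groth.Agent.PerfC.DTens Groth.Agent.Dcoh.DerSch
  Groth.Agent.Dual.H360.ProjAff Groth.Agent.Dcoh.DerPull
  Groth.Agent.RatRes.K383.Gen Groth.Agent.RatRes.K383.GenSch

variable {X X' W W' W'' W₁ W₁' : Scheme.{u}}

/-- The splitting in the derived category from a retraction of modules. -/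
theorem exists_retraction_of_finite (a : W'' ⟶ W') [IsAffineHom a] [DCoh.HasRpush a]
    (v : Coh.structureModule W' ⟶ (Scheme.Modules.pushforward a).obj (Coh.structureModule W''))
    (τ : (Scheme.Modules.pushforward a).obj (Coh.structureModule W'') ⟶ Coh.structureModule W')
    (hτ : v ≫ τ = 𝟙 _) :
    ∃ (v' : DerivedCategory.Q.obj (unitCx W') ⟶ (DCoh.Rpush a).obj (DerivedCategory.Q.obj (unitCx W'')))
      (t : (DCoh.Rpush a).obj (DerivedCategory.Q.obj (unitCx W'')) ⟶ DerivedCategory.Q.obj (unitCx W')),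
      v' ≫ t = 𝟙 _ := by
  have : HasInjectiveResolutions W''.Modules := hasInjectiveResolutions W''
  obtain ⟨e⟩ := PerfB.FibreZero.nonempty_Rpush_inD a (Coh.structureModule W'')
    (fun i hi => PerfC.AffPushD.isZero_Rpush a _ (Groth.Agent.Ega2.QCohLocal.isQCoh_structureModule W'') i hi)
  let e' : (DCoh.Rpush a).obj (DerivedCategory.Q.obj (unitCx W'')) ≅
      (DerivedCategory.singleFunctor W'.Modules 0).obj
        ((Scheme.Modules.pushforward a).obj (Coh.structureModule W'')) :=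
    (DCoh.Rpush a).mapIso (inDIso (Coh.structureModule W'')).symm ≪≫ e
  let i := inDIso (Coh.structureModule W')
  refine ⟨i.inv ≫ (DerivedCategory.singleFunctor W'.Modules 0).map v ≫ e'.inv,
    e'.hom ≫ (DerivedCategory.singleFunctor W'.Modules 0).map τ ≫ i.hom, ?_⟩
  simp only [Category.assoc, Iso.inv_hom_id_assoc]
  rw [← Functor.map_comp_assoc, hτ, CategoryTheory.Functor.map_id]
  change i.inv ≫ 𝟙 _ ≫ i.hom = _
  rw [Category.id_comp, Iso.inv_hom_id]

/-- Killing higher direct images through a finite cover with a trace. -/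
theorem kills_of_finite (p : W ⟶ X) (f' : X' ⟶ X) [IsAffineHom f'] (r₁ : W₁ ⟶ X') (b : W₁ ⟶ W)
    (hb : b ≫ p = r₁ ≫ f') (h₁ : W₁' ⟶ W₁) (h : W' ⟶ W) (a' : W'' ⟶ W') (c : W'' ⟶ W₁')
    (hc : c ≫ h₁ ≫ b = a' ≫ h) [QuasiCompact r₁] [QuasiSeparated r₁] [QuasiCompact h₁] [QuasiSeparated h₁]
    [QuasiCompact c] [QuasiSeparated c]
    [DCoh.HasRpush p] [DCoh.HasRpush h] [DCoh.HasRpush h₁] [DCoh.HasRpush r₁] [DCoh.HasRpush a']
    [DCoh.HasLpull h] [DCoh.HasLpull b] (hk : Kills h₁ r₁)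
    (v : DerivedCategory.Q.obj (unitCx W') ⟶ (DCoh.Rpush a').obj (DerivedCategory.Q.obj (unitCx W'')))
    (t : (DCoh.Rpush a').obj (DerivedCategory.Q.obj (unitCx W'')) ⟶ DerivedCategory.Q.obj (unitCx W'))
    (ht : v ≫ t = 𝟙 _) : Kills h p := by
  have : DCoh.HasRpush b := hasRpush _
  have : DCoh.HasRpush c := hasRpush _
  have : DCoh.HasRpush f' := hasRpush _
  have : DCoh.HasRpush (h₁ ≫ b) := hasRpush _
  have : DCoh.HasRpush (a' ≫ h) := hasRpush _
  have : DCoh.HasRpush (c ≫ h₁ ≫ b) := hasRpush _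
  have : DCoh.HasRpush (b ≫ p) := hasRpush _
  have : DCoh.HasRpush (r₁ ≫ f') := hasRpush _
  refine ⟨fun K φ i hi => ?_⟩
  obtain ⟨uh, huh⟩ : ∃ w, IsGen (DCoh.Rpush h) (DerivedCategory.Q.obj (unitCx W'))
    (DerivedCategory.Q.obj (unitCx W)) w := ⟨_, isGen h⟩
  obtain ⟨ub, hub⟩ : ∃ w, IsGen (DCoh.Rpush b) (DerivedCategory.Q.obj (unitCx W₁))
    (DerivedCategory.Q.obj (unitCx W)) w := ⟨_, isGen b⟩
  obtain ⟨y, hy⟩ := huh.ex K φ
  obtain ⟨γ⟩ := Tower.nonempty_congr hc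
  obtain ⟨δ⟩ := Tower.nonempty_congr hb
  let θ : (DCoh.Rpush h).obj ((DCoh.Rpush a').obj (DerivedCategory.Q.obj (unitCx W''))) ≅
      (DCoh.Rpush b).obj ((DCoh.Rpush h₁).obj ((DCoh.Rpush c).obj (DerivedCategory.Q.obj (unitCx W'')))) :=
    (rpushComp a' h).app _ ≪≫ γ.symm.app _ ≪≫ (rpushComp c (h₁ ≫ b)).symm.app _ ≪≫
      (rpushComp h₁ b).symm.app _
  obtain ⟨z, hz⟩ := hub.ex _ ((uh ≫ (DCoh.Rpush h).map v) ≫ θ.hom)
  have h1 := hk.zero _ z i hi
  have hq1 : DCoh.IsQCohD ((DCoh.Rpush r₁).obj (DerivedCategory.Q.obj (unitCx W₁))) :=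
    Groth.Agent.S0998.result r₁ _ (isQCohD_unit W₁)
  have hq2 : DCoh.IsQCohD ((DCoh.Rpush r₁).obj
      ((DCoh.Rpush h₁).obj ((DCoh.Rpush c).obj (DerivedCategory.Q.obj (unitCx W''))))) :=
    Groth.Agent.S0998.result r₁ _ (Groth.Agent.S0998.result h₁ _ (Groth.Agent.S0998.result c _ (isQCohD_unit W'')))
  have h2 := AffExact.map_eq_zero f' hq1 hq2 _ i h1
  let e : DCoh.Rpush b ⋙ DCoh.Rpush p ≅ DCoh.Rpush r₁ ⋙ DCoh.Rpush f' :=
    rpushComp b p ≪≫ δ ≪≫ (rpushComp r₁ f').symm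
  have h3 : (DCoh.Rpush p).map ((DCoh.Rpush b).map z) =
      e.hom.app _ ≫ (DCoh.Rpush f').map ((DCoh.Rpush r₁).map z) ≫ e.inv.app _ := by
    have n := e.hom.naturality z
    simp only [Functor.comp_map] at n
    rw [← reassoc_of% n, Iso.hom_inv_id_app]
    exact (Category.comp_id _).symm
  have h5 : (DCoh.Rpush h).map y = (DCoh.Rpush h).map v ≫ (DCoh.Rpush h).map (t ≫ y) := by
    rw [← Functor.map_comp, ← Category.assoc, ht, Category.id_comp]
  have h4 : φ = (ub ≫ (DCoh.Rpush b).map z) ≫ θ.inv ≫ (DCoh.Rpush h).map (t ≫ y) := by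
    rw [hz, ← hy, h5]
    simp only [Category.assoc, Iso.hom_inv_id_assoc]
  rw [h4, Functor.map_comp, Functor.map_comp, Functor.map_comp, Functor.map_comp, h3, Functor.map_comp,
    Functor.map_comp, h2]
  simp only [zero_comp, comp_zero]

end Groth.Agent.RatRes.K383.FiniteKill
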