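import Mathlib.CategoryTheory.Adjunction.Basic
import Mathlib.CategoryTheory.Functor.Category

/-!
# Generators of functors, good steps, and towers (formal part)

`IsGen P a b v`: the morphism `v : b ⟶ P a` is initial among morphisms from `b` to values of `P`
(in the application `P = Rf_*`, `a = O_X`, `b = O_Y`).  `IsGoodG P H a b`: every `P(φ)`, `φ : a ⟶ H K`, factors
through the generator of `P` by a retraction of the generator.
-/

set_option autoImplicit false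

universe w v u

open CategoryTheory

namespace Groth.Agent.RatRes.K383.Gen

variable {A : Type*} {B : Type*} {C : Type*} {E : Type*} {S : Type*} [Category A] [Category B] [Category C]
  [Category E] [Category S]

/-- `v : b ⟶ P a` is initial among morphisms from `b` to values of `P`. -/
structure IsGen (P : A ⥤ B) (a : A) (b : B) (v : b ⟶ P.obj a) : Prop where
  ex : ∀ (K : A) (φ : b ⟶ P.obj K), ∃ c : a ⟶ K, v ≫ P.map c = φ
  uniq : ∀ (K : A) (c c' : a ⟶ K), v ≫ P.map c = v ≫ P.map c' → c = c'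

/-- The generator of a right adjoint. -/
theorem isGen_of_adj {P : A ⥤ B} {L : B ⥤ A} (adj : L ⊣ P) {a : A} {b : B} (i : L.obj b ≅ a) :
    IsGen P a b (adj.unit.app b ≫ P.map i.hom) := by
  have h : ∀ (K : A) (c : a ⟶ K), (adj.unit.app b ≫ P.map i.hom) ≫ P.map c = adj.homEquiv b K (i.hom ≫ c) := by
    intro K c
    rw [adj.homEquiv_unit, Functor.map_comp, Category.assoc]
  refine ⟨fun K φ => ⟨i.inv ≫ (adj.homEquiv b K).symm φ, ?_⟩, fun K c c' hc => ?_⟩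
  · rw [h, Iso.hom_inv_id_assoc, Equiv.apply_symm_apply]
  · rw [h, h] at hc
    exact (cancel_epi i.hom).1 ((adj.homEquiv b K).injective hc)

/-- Composition of generators. -/
theorem IsGen.comp {P : A ⥤ B} {Q : B ⥤ C} {a : A} {b : B} {c : C} {v : b ⟶ P.obj a} {w : c ⟶ Q.obj b}
    (hv : IsGen P a b v) (hw : IsGen Q b c w) : IsGen (P ⋙ Q) a c (w ≫ Q.map v) := by
  refine ⟨fun K φ => ?_, fun K x x' h => ?_⟩
  · obtain ⟨y, hy⟩ := hw.ex _ φ
    obtain ⟨x, hx⟩ := hv.ex K y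
    refine ⟨x, ?_⟩
    change (w ≫ Q.map v) ≫ Q.map (P.map x) = φ
    rw [Category.assoc, ← Functor.map_comp, hx, hy]
  · change (w ≫ Q.map v) ≫ Q.map (P.map x) = (w ≫ Q.map v) ≫ Q.map (P.map x') at h
    rw [Category.assoc, ← Functor.map_comp, Category.assoc, ← Functor.map_comp] at h
    exact hv.uniq K x x' (hw.uniq _ _ _ h)

/-- Transport along an isomorphism of functors. -/
theorem IsGen.of_iso {P P' : A ⥤ B} (θ : P ≅ P') {a : A} {b : B} {v : b ⟶ P.obj a} (hv : IsGen P a b v) :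
    IsGen P' a b (v ≫ θ.hom.app a) := by
  have key : ∀ (K : A) (c : a ⟶ K), (v ≫ θ.hom.app a) ≫ P'.map c = (v ≫ P.map c) ≫ θ.hom.app K := by
    intro K c
    rw [Category.assoc, Category.assoc, θ.hom.naturality]
  refine ⟨fun K φ => ?_, fun K c c' h => ?_⟩
  · obtain ⟨c, hc⟩ := hv.ex K (φ ≫ θ.inv.app K)
    refine ⟨c, ?_⟩
    rw [key, hc, Category.assoc, Iso.inv_hom_id_app, Category.comp_id]
  · rw [key, key] at h
    exact hv.uniq K c c' ((cancel_mono (θ.hom.app K)).1 h)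

/-- Two generators differ by an automorphism. -/
theorem IsGen.exists_iso {P : A ⥤ B} {a : A} {b : B} {v v' : b ⟶ P.obj a} (hv : IsGen P a b v)
    (hv' : IsGen P a b v') : ∃ t : a ≅ a, v ≫ P.map t.hom = v' := by
  obtain ⟨c, hc⟩ := hv.ex a v'
  obtain ⟨c', hc'⟩ := hv'.ex a v
  refine ⟨⟨c, c', hv.uniq _ _ _ ?_, hv'.uniq _ _ _ ?_⟩, hc⟩
  · rw [Functor.map_comp, reassoc_of% hc, hc', Functor.map_id, Category.comp_id]
  · rw [Functor.map_comp, reassoc_of% hc', hc, Functor.map_id, Category.comp_id]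

/-- A good step `H` over `P`. -/
def IsGoodG (P : A ⥤ B) (H : C ⥤ A) (a : A) (b : B) : Prop :=
  ∀ v : b ⟶ P.obj a, IsGen P a b v → ∃ s : P.obj a ⟶ b, v ≫ s = 𝟙 b ∧
    ∀ (K : C) (φ : a ⟶ H.obj K), s ≫ v ≫ P.map φ = P.map φ

/-- It suffices to know one generator of `P` and one generator of `H`. -/
theorem isGoodG_of {P : A ⥤ B} {H : C ⥤ A} {a : A} {b : B} {c : C} {v : b ⟶ P.obj a} (hv : IsGen P a b v)
    {w : a ⟶ H.obj c} (hw : IsGen H c a w)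
    (h : ∃ s : P.obj a ⟶ b, v ≫ s = 𝟙 b ∧ s ≫ v ≫ P.map w = P.map w) : IsGoodG P H a b := by
  intro v' hv'
  obtain ⟨s, hs, hs'⟩ := h
  obtain ⟨t, ht⟩ := hv.exists_iso hv'
  have hs'' : ∀ (K : C) (φ : a ⟶ H.obj K), s ≫ v ≫ P.map φ = P.map φ := by
    intro K φ
    obtain ⟨x, rfl⟩ := hw.ex K φ
    rw [Functor.map_comp, reassoc_of% hs']
  refine ⟨P.map t.inv ≫ s, ?_, fun K φ => ?_⟩
  · rw [← ht, Category.assoc, ← Functor.map_comp_assoc, Iso.hom_inv_id, Functor.map_id, Category.id_comp, hs]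
  · rw [← ht, Category.assoc, Category.assoc, ← Functor.map_comp, hs'' K (t.hom ≫ φ), ← Functor.map_comp,
      Iso.inv_hom_id_assoc]

/-- Transport of goodness along isomorphisms of functors. -/
theorem IsGoodG.of_iso {P P' : A ⥤ B} {H H' : C ⥤ A} (θ : P ≅ P') (η : H ≅ H') {a : A} {b : B}
    (h : IsGoodG P H a b) : IsGoodG P' H' a b := by
  intro v hv
  obtain ⟨s, hs, hs'⟩ := h (v ≫ θ.inv.app a) (hv.of_iso θ.symm)
  refine ⟨θ.inv.app a ≫ s, by rw [← Category.assoc, hs], fun K φ => ?_⟩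
  have h1 := hs' K (φ ≫ η.inv.app K)
  have h2 : P'.map φ = θ.inv.app a ≫ P.map (φ ≫ η.inv.app K) ≫ P.map (η.hom.app K) ≫ θ.hom.app _ := by
    rw [← Functor.map_comp_assoc, Category.assoc, Iso.inv_hom_id_app, Category.comp_id]
    rw [← θ.inv.naturality_assoc, Iso.inv_hom_id_app, Category.comp_id]
  have h3 : v ≫ P'.map φ = (v ≫ θ.inv.app a) ≫ P.map (φ ≫ η.inv.app K) ≫ P.map (η.hom.app K) ≫ θ.hom.app _ := by
    rw [Category.assoc, ← h2]
  rw [h3]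
  simp only [Category.assoc] at h1 ⊢
  rw [reassoc_of% h1, ← h2]

/-- Precomposition with a further step. -/
theorem IsGoodG.precomp {P : A ⥤ B} {H : C ⥤ A} (H' : E ⥤ C) {a : A} {b : B} (h : IsGoodG P H a b) :
    IsGoodG P (H' ⋙ H) a b := by
  intro v hv
  obtain ⟨s, hs, hs'⟩ := h v hv
  exact ⟨s, hs, fun K φ => hs' (H'.obj K) φ⟩

/-- If `P` has a good step `H` and `H` itself has a retraction of its generator, the generator of `P` is an
isomorphism. -/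
theorem isIso_of_isGoodG {P : A ⥤ B} {H : C ⥤ A} {a : A} {b : B} {c : C} (h : IsGoodG P H a b)
    {v : b ⟶ P.obj a} (hv : IsGen P a b v) {w : a ⟶ H.obj c} (t : H.obj c ⟶ a) (ht : w ≫ t = 𝟙 a) : IsIso v := by
  obtain ⟨s, hs, hs'⟩ := h v hv
  refine ⟨s, hs, ?_⟩
  have h1 := hs' c w
  have h2 : P.map w ≫ P.map t = 𝟙 _ := by rw [← Functor.map_comp, ht, Functor.map_id]
  rw [← h2, ← h1]
  simp only [Category.assoc, ← Functor.map_comp, ht, Functor.map_id, Category.comp_id]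

variable {X Y Z₀ Z₁ Z₂ Z₃ : Type*} [Category X] [Category Y] [Category Z₀] [Category Z₁] [Category Z₂]
  [Category Z₃]

/-- **Towers of good steps.** -/
theorem nonempty_iso_of_tower {F : X ⥤ S} {G : Y ⥤ S} {P : Z₀ ⥤ X} {Q : Z₀ ⥤ Y} {H₀ : Z₁ ⥤ Z₀} {H₁ : Z₂ ⥤ Z₁}
    {H₂ : Z₃ ⥤ Z₂} (e : P ⋙ F ≅ Q ⋙ G) {oX : X} {oY : Y} {o₀ : Z₀} {o₁ : Z₁} {o₂ : Z₂}
    {p : oX ⟶ P.obj o₀} {q : oY ⟶ Q.obj o₀} {t₀ : o₀ ⟶ H₀.obj o₁} {t₁ : o₁ ⟶ H₁.obj o₂}
    (hp : IsGen P o₀ oX p) (hq : IsGen Q o₀ oY q) (ht₀ : IsGen H₀ o₁ o₀ t₀) (ht₁ : IsGen H₁ o₂ o₁ t₁)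
    (g₀ : IsGoodG Q H₀ o₀ oY) (g₁ : IsGoodG (H₀ ⋙ P) H₁ o₁ oX) (g₂ : IsGoodG (H₁ ⋙ H₀ ⋙ Q) H₂ o₂ oY) :
    Nonempty (F.obj oX ≅ G.obj oY) := by
  obtain ⟨s₀, hs₀, hs₀'⟩ := g₀ q hq
  obtain ⟨s₁, hs₁, hs₁'⟩ := g₁ _ (ht₀.comp hp)
  obtain ⟨s₂, hs₂, -⟩ := g₂ _ (ht₁.comp (ht₀.comp hq))
  have hs₀'' := hs₀' _ t₀
  have hs₁'' : s₁ ≫ (p ≫ P.map t₀) ≫ P.map (H₀.map t₁) = P.map (H₀.map t₁) := hs₁' _ t₁
  have hs₂'' : ((q ≫ Q.map t₀) ≫ Q.map (H₀.map t₁)) ≫ s₂ = 𝟙 oY := hs₂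
  have hs₁''' : (p ≫ P.map t₀) ≫ s₁ = 𝟙 oX := hs₁
  -- `P` and `Q` compared in `S`
  have n1 : ∀ {x y : Z₀} (f : x ⟶ y), F.map (P.map f) ≫ e.hom.app y = e.hom.app x ≫ G.map (Q.map f) :=
    fun f => e.hom.naturality f
  have n2 : ∀ {x y : Z₀} (f : x ⟶ y), G.map (Q.map f) ≫ e.inv.app y = e.inv.app x ≫ F.map (P.map f) :=
    fun f => e.inv.naturality f
  let α : F.obj oX ⟶ G.obj oY := F.map (p ≫ P.map t₀) ≫ F.map (P.map (H₀.map t₁)) ≫ e.hom.app _ ≫ G.map s₂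
  let β : G.obj oY ⟶ F.obj oX := G.map (q ≫ Q.map t₀) ≫ e.inv.app _ ≫ F.map s₁
  have k1 : F.map s₁ ≫ F.map (p ≫ P.map t₀) ≫ F.map (P.map (H₀.map t₁)) = F.map (P.map (H₀.map t₁)) := by
    rw [← Functor.map_comp, ← Functor.map_comp, hs₁'']
  have k2 : G.map (q ≫ Q.map t₀) ≫ G.map (Q.map (H₀.map t₁)) ≫ G.map s₂ = 𝟙 _ := by
    rw [← Functor.map_comp, ← Functor.map_comp, ← Category.assoc, hs₂'', Functor.map_id]
  have k3 : F.map (p ≫ P.map t₀) = F.map p ≫ e.hom.app _ ≫ G.map s₀ ≫ G.map (q ≫ Q.map t₀) ≫ e.inv.app _ := by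
    have : F.map (P.map t₀) = e.hom.app _ ≫ G.map (Q.map t₀) ≫ e.inv.app _ := by
      rw [n2, Iso.hom_inv_id_app_assoc]
    have h7 : G.map (Q.map t₀) = G.map s₀ ≫ G.map (q ≫ Q.map t₀) := by rw [← Functor.map_comp, hs₀'']
    rw [Functor.map_comp, this, h7]
    simp only [Category.assoc]
  have k4 : F.map (p ≫ P.map t₀) ≫ F.map s₁ = 𝟙 _ := by
    rw [← Functor.map_comp, hs₁''', Functor.map_id]
  have βα : β ≫ α = 𝟙 _ := by
    simp only [α, β, Category.assoc]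
    rw [reassoc_of% k1, reassoc_of% (n1 (H₀.map t₁)), Iso.inv_hom_id_app_assoc]
    exact k2
  refine ⟨⟨α, β, ?_, βα⟩⟩
  have h5 : α = F.map p ≫ e.hom.app _ ≫ G.map s₀ := by
    have h6 : G.map (q ≫ Q.map t₀) ≫ e.inv.app _ ≫ F.map (P.map (H₀.map t₁)) ≫ e.hom.app _ ≫ G.map s₂ = 𝟙 _ := by
      rw [reassoc_of% (n1 (H₀.map t₁)), Iso.inv_hom_id_app_assoc]
      exact k2
    simp only [α]
    rw [k3]
    simp only [Category.assoc]
    rw [h6, Category.comp_id]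
  rw [h5]
  simp only [β, Category.assoc]
  rw [← k4, k3]
  simp only [Category.assoc]

end Groth.Agent.RatRes.K383.Gen
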