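import Groth.Agent.RatRes.K383.LocalKill
import Groth.Agent.RatRes.K383.Degree
import Groth.Agent.RatRes.K97.Acyclic

/-!
# Schemes with good modifications

* `HasKill X`: every modification `Z` of `X` has a further normal modification `h : Z' ⟶ Z` such that
  `O_Z ⟶ Rh_* K` induces zero on `R^i p_*`, `i > 0`.
* `HasGood X`: every modification `p : Z ⟶ X` has a further normal modification which is a good step.
* `hasGood_of_hasKill`.
* `nonempty_iso_unit`: `Rf_* O_X ≅ O_Y` for a modification between schemes with good modifications.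
* `tower_O`, `tower_D`: invariance of `Rf_* O_X` and `Rf_* D_X` under proper birational equivalence.
-/

set_option autoImplicit false

universe u

open CategoryTheory CategoryTheory.Limits AlgebraicGeometry Pretriangulated

attribute [local instance] HasDerivedCategory.standard

namespace Groth.Agent.RatRes.K383.GoodMod

open Groth.Agent.PerfC.LpullTens Groth.Agent.PerfC.DTens Groth.Agent.Dcoh.DerSch
  Groth.Agent.Dual.H360.ProjAff Groth.Agent.Dcoh.DerPull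
  Groth.Agent.RatRes.K383.Gen Groth.Agent.RatRes.K383.GenSch Groth.Agent.RatRes.K383.Trunc
  Groth.Agent.CurvesC.Modif Groth.Agent.RatRes.K383.DC

variable {X Y Z Z' S T : Scheme.{u}}

/-- Higher direct images can be killed by modifications. -/
structure HasKill (X : Scheme.{u}) : Prop where
  ex : ∀ {Z : Scheme.{u}} (p : Z ⟶ X), IsModif p → ∃ (Z' : Scheme.{u}) (h : Z' ⟶ Z), IsModif h ∧
    Pi1.IsNormalScheme Z' ∧ ∀ [DCoh.HasRpush h] [DCoh.HasRpush p], Kills h p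

/-- Every modification is dominated by a good step. -/
structure HasGood (X : Scheme.{u}) : Prop where
  ex : ∀ {Z : Scheme.{u}} (p : Z ⟶ X), IsModif p → ∃ (Z' : Scheme.{u}) (h : Z' ⟶ Z), IsModif h ∧
    Pi1.IsNormalScheme Z' ∧ ∀ [DCoh.HasRpush h] [DCoh.HasRpush p],
      IsGoodG (DCoh.Rpush p) (DCoh.Rpush h) (DerivedCategory.Q.obj (unitCx Z))
        (DerivedCategory.Q.obj (unitCx X))

/-- Iterating. -/
theorem exists_facLE (H : HasKill X) (p : Z ⟶ X) (hp : IsModif p) [DCoh.HasRpush p] (N : ℕ)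
    [hN : ((DCoh.Rpush p).obj (DerivedCategory.Q.obj (unitCx Z))).IsLE N] : ∀ n : ℕ, n ≤ N →
      ∃ (Z' : Scheme.{u}) (h : Z' ⟶ Z) (_ : IsModif h) (_ : DCoh.HasRpush h),
        ∀ (K : DCoh.D Z') (φ : DerivedCategory.Q.obj (unitCx Z) ⟶ (DCoh.Rpush h).obj K),
          FacLE ((N : ℤ) - n) ((DCoh.Rpush p).map φ) := by
  have := hp.integral
  intro n
  induction n with
  | zero =>
    intro _
    refine ⟨Z, 𝟙 Z, K97.Acyclic.isModif_of_isIso _, hasRpush _, fun K φ => ?_⟩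
    have hN' : ((DCoh.Rpush p).obj (DerivedCategory.Q.obj (unitCx Z))).IsLE ((N : ℤ) - (0 : ℕ)) := by
      simpa using hN
    exact FacLE.of_isLE _ _
  | succ n ih =>
    intro hn
    obtain ⟨Z', h, hh, hR, hfac⟩ := ih (by omega)
    obtain ⟨Z'', h', hh', -, hk⟩ := H.ex (h ≫ p) (hh.comp hp)
    have : DCoh.HasRpush h' := hasRpush _
    have : DCoh.HasRpush (h' ≫ h) := hasRpush _
    have : DCoh.HasRpush (h ≫ p) := hasRpush _
    have : DCoh.HasLpull h := Groth.Agent.S0959.result h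
    refine ⟨Z'', h' ≫ h, hh'.comp hh, hasRpush _, fun K φ => ?_⟩
    have h1 := facLE_step h' h p (n := (N : ℤ) - n) (by omega) hfac hk K φ
    have h2 : (N : ℤ) - ((n + 1 : ℕ) : ℤ) = (N : ℤ) - n - 1 := by push_cast; ring
    rw [h2]
    exact h1

/-- `(hp)_* O ≅ O_X` for a modification of a normal scheme. -/
theorem nonempty_push_iso [IsIntegral X] (hX : Pi1.IsNormalScheme X) (p : Z ⟶ X) (hp : IsModif p) :
    Nonempty ((Coh.push p).obj (Coh.structureModule Z) ≅ Coh.structureModule X) := by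
  have h1 : IsIso (Groth.Agent.Fga.UnitRestrict.unitToPush p) := by
    refine Groth.Agent.Fga.UnitRestrict.isIso_unitToPush p fun U => ?_
    have := K97.ModTools.isIso_app hX hp U
    exact ConcreteCategory.bijective_of_isIso (p.app U)
  exact ⟨(asIso (Groth.Agent.Fga.UnitRestrict.unitToPush p)).symm⟩

theorem hasGood_of_hasKill [CompactSpace X] [IsIntegral X] (hX : Pi1.IsNormalScheme X) (H : HasKill X) :
    HasGood X := by
  refine ⟨fun {Z} p hp => ?_⟩
  have := hp.proper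
  have hRp : DCoh.HasRpush p := hasRpush p
  obtain ⟨N, hN⟩ := exists_bound p
  obtain ⟨Z', h, hh, hR, hfac⟩ := exists_facLE H p hp N N le_rfl
  obtain ⟨Z'', h', hh', hn', -⟩ := H.ex (h ≫ p) (hh.comp hp)
  refine ⟨Z'', h' ≫ h, hh'.comp hh, hn', fun {_} {_} => ?_⟩
  have : DCoh.HasRpush h' := hasRpush _
  have : DCoh.HasLpull h := Groth.Agent.S0959.result h
  have : DCoh.HasLpull p := Groth.Agent.S0959.result p
  have : DCoh.HasLpull (h' ≫ h) := Groth.Agent.S0959.result (h' ≫ h)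
  have h0 : (N : ℤ) - (N : ℕ) = 0 := sub_self _
  rw [h0] at hfac
  have hfac' : ∀ (K : DCoh.D Z'') (φ : DerivedCategory.Q.obj (unitCx Z) ⟶ (DCoh.Rpush (h' ≫ h)).obj K),
      FacLE 0 ((DCoh.Rpush p).map φ) := by
    intro K φ
    obtain ⟨c, hc⟩ := (isGen h).ex _ (φ ≫ (rpushComp h' h).inv.app K)
    have h1 : φ = (((lpullAdj h).unit.app (DerivedCategory.Q.obj (unitCx Z)) ≫
        (DCoh.Rpush h).map (lpullUnit h).hom) ≫ (DCoh.Rpush h).map c) ≫ (rpushComp h' h).hom.app K := by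
      rw [hc, Category.assoc, Iso.inv_hom_id_app]
      exact (Category.comp_id _).symm
    rw [h1, Functor.map_comp, Functor.map_comp]
    exact ((hfac _ _).comp _).comp _
  refine isGoodG_of_facLE (h' ≫ h) p (hfac' _ _) ?_
  exact nonempty_push_iso hX _ ((hh'.comp hh).comp hp)

/-- The generator of `Rh_*` has a retraction. -/
theorem HasGood.exists_retraction (H : HasGood X) (h : Z ⟶ X) (hh : IsModif h) [DCoh.HasRpush h] [DCoh.HasLpull h] :
    ∃ t : (DCoh.Rpush h).obj (DerivedCategory.Q.obj (unitCx Z)) ⟶ DerivedCategory.Q.obj (unitCx X),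
      ((lpullAdj h).unit.app (DerivedCategory.Q.obj (unitCx X)) ≫ (DCoh.Rpush h).map (lpullUnit h).hom) ≫ t =
        𝟙 _ := by
  obtain ⟨Z', h', -, -, hg⟩ := H.ex h hh
  have : DCoh.HasRpush h' := hasRpush _
  obtain ⟨s, hs, -⟩ := hg _ (isGen h)
  exact ⟨s, hs⟩

/-- `Rf_* O_X ≅ O_Y`. -/
theorem nonempty_iso_unit (HX : HasGood X) (HY : HasGood Y) (f : X ⟶ Y) (hf : IsModif f) [DCoh.HasRpush f] :
    Nonempty (DerivedCategory.Q.obj (unitCx Y) ≅ (DCoh.Rpush f).obj (DerivedCategory.Q.obj (unitCx X))) := by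
  obtain ⟨X', h, hh, -, hg⟩ := HY.ex f hf
  have : DCoh.HasRpush h := hasRpush _
  have : DCoh.HasLpull h := Groth.Agent.S0959.result h
  have : DCoh.HasLpull f := Groth.Agent.S0959.result f
  obtain ⟨t, ht⟩ := HX.exists_retraction h hh
  have := isIso_of_isGoodG hg (isGen f) t ht
  exact ⟨@asIso _ _ _ _ _ this⟩

/-- `R^p f_* O_X = 0` for `p > 0` and `f_* O_X ≅ O_Y`. -/
theorem rpush_zero (HX : HasGood X) (HY : HasGood Y) (f : X ⟶ Y) (hf : IsModif f)
    [HasInjectiveResolutions X.Modules] (p : ℕ) (hp : 0 < p) :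
    IsZero ((Coh.Rpush f p).obj (Coh.structureModule X)) := by
  have : DCoh.HasRpush f := hasRpush _
  obtain ⟨e⟩ := nonempty_iso_unit HX HY f hf
  exact (Degree.zero_and_iso₀ f ⟨(DCoh.Rpush f).mapIso (inDIso (Coh.structureModule X)) ≪≫ e.symm ≪≫
    (inDIso (Coh.structureModule Y)).symm⟩).1 p hp

/-- Invariance of `Rf_* O_X`. -/
theorem tower_O (HX : HasGood X) (HY : HasGood Y) (f : X ⟶ S) (g : Y ⟶ S) (p : Z ⟶ X) (hp : IsModif p)
    (q : Z ⟶ Y) (hq : IsModif q) (w : p ≫ f = q ≫ g) [DCoh.HasRpush f] [DCoh.HasRpush g] :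
    Nonempty ((DCoh.Rpush f).obj (DerivedCategory.Q.obj (unitCx X)) ≅
      (DCoh.Rpush g).obj (DerivedCategory.Q.obj (unitCx Y))) := by
  obtain ⟨Z₁, h₀, hh₀, -, g₀⟩ := HY.ex q hq
  obtain ⟨Z₂, h₁, hh₁, -, g₁⟩ := HX.ex (h₀ ≫ p) (hh₀.comp hp)
  obtain ⟨Z₃, h₂, hh₂, -, g₂⟩ := HY.ex (h₁ ≫ h₀ ≫ q) (hh₁.comp (hh₀.comp hq))
  have : DCoh.HasRpush p := hasRpush _
  have : DCoh.HasRpush q := hasRpush _
  have : DCoh.HasRpush h₀ := hasRpush _
  have : DCoh.HasRpush h₁ := hasRpush _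
  have : DCoh.HasRpush h₂ := hasRpush _
  have : DCoh.HasRpush (h₀ ≫ p) := hasRpush _
  have : DCoh.HasRpush (h₀ ≫ q) := hasRpush _
  have : DCoh.HasRpush (h₁ ≫ h₀ ≫ q) := hasRpush _
  have : DCoh.HasRpush (p ≫ f) := hasRpush _
  have : DCoh.HasRpush (q ≫ g) := hasRpush _
  have : DCoh.HasLpull p := Groth.Agent.S0959.result p
  have : DCoh.HasLpull q := Groth.Agent.S0959.result q
  have : DCoh.HasLpull h₀ := Groth.Agent.S0959.result h₀
  have : DCoh.HasLpull h₁ := Groth.Agent.S0959.result h₁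
  obtain ⟨e⟩ := Tower.nonempty_congr w
  refine nonempty_iso_of_tower (rpushComp p f ≪≫ e ≪≫ (rpushComp q g).symm) (isGen p) (isGen q) (isGen h₀)
    (isGen h₁) g₀ (IsGoodG.of_iso (rpushComp h₀ p).symm (Iso.refl _) g₁)
    (IsGoodG.of_iso ((rpushComp h₁ (h₀ ≫ q)).symm ≪≫ Functor.isoWhiskerLeft (DCoh.Rpush h₁)
      (rpushComp h₀ q).symm) (Iso.refl _) g₂)

/-- Invariance of `Rf_* D_X`. -/
theorem tower_D [IsNoetherian T] (HX : HasGood X) (HY : HasGood Y) (f : X ⟶ S) (g : Y ⟶ S) (a : X ⟶ T) (b : Y ⟶ T)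
    (p : Z ⟶ X) (hp : IsModif p) (q : Z ⟶ Y) (hq : IsModif q) (w : p ≫ f = q ≫ g) (wT : p ≫ a = q ≫ b)
    [IsSeparated a] [QuasiCompact a] [LocallyOfFiniteType a] [DCoh.HasRpush f] [DCoh.HasRpush g]
    {DX : DCoh.D X} {DY : DCoh.D Y} (hDX : IsDC a DX) (hDY : IsDC b DY) :
    Nonempty ((DCoh.Rpush f).obj DX ≅ (DCoh.Rpush g).obj DY) := by
  obtain ⟨Z₁, h₀, hh₀, -, g₀⟩ := HY.ex q hq
  obtain ⟨Z₂, h₁, hh₁, -, g₁⟩ := HX.ex (h₀ ≫ p) (hh₀.comp hp)
  obtain ⟨Z₃, h₂, hh₂, -, g₂⟩ := HY.ex (h₁ ≫ h₀ ≫ q) (hh₁.comp (hh₀.comp hq))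
  have := hp.proper
  have := hq.proper
  have := hh₀.proper
  have := hh₁.proper
  have := hh₂.proper
  have : DCoh.HasRpush q := hasRpush _
  have : DCoh.HasRpush h₀ := hasRpush _
  have : DCoh.HasRpush h₁ := hasRpush _
  have : DCoh.HasRpush h₂ := hasRpush _
  have : DCoh.HasRpush (h₀ ≫ p) := hasRpush _
  have : DCoh.HasRpush (h₁ ≫ h₀ ≫ q) := hasRpush _
  have : DCoh.HasLpull q := Groth.Agent.S0959.result q
  have : DCoh.HasLpull h₀ := Groth.Agent.S0959.result h₀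
  have : DCoh.HasLpull h₁ := Groth.Agent.S0959.result h₁
  have : DCoh.HasLpull h₂ := Groth.Agent.S0959.result h₂
  have : DCoh.HasLpull (h₀ ≫ p) := Groth.Agent.S0959.result (h₀ ≫ p)
  have : DCoh.HasLpull (h₁ ≫ h₀ ≫ q) := Groth.Agent.S0959.result (h₁ ≫ h₀ ≫ q)
  exact Tower.main f g a b p q h₀ h₁ h₂ w wT (isGood_of _ _ g₀) (isGood_of _ _ g₁) (isGood_of _ _ g₂) hDX hDY

end Groth.Agent.RatRes.K383.GoodMod
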