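import Groth.Agent.CurvesC.DerHom

/-!
# Killing cohomology step by step

`FacLE n φ`: `φ` factors through an object in degrees `≤ n`.
* `FacLE.step`: composing with a morphism which is zero on `H^n` lowers `n` by one;
* `exists_factor`: if `FacLE 0 φ` and `e : O ⟶ C'` is an isomorphism on `H^0` with `O` in degree `0`, `C'` in
  degrees `≥ 0`, then `φ` factors through `e`;
* `hom_ext`: `e` is a monomorphism for morphisms from objects in degrees `≤ 0`.
-/

set_option autoImplicit false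
universe w v u

open CategoryTheory CategoryTheory.Limits Pretriangulated DerivedCategory

namespace Groth.Agent.RatRes.K383.Trunc

open Groth.Agent.CurvesC.DerHom

variable {A : Type u} [Category.{v} A] [Abelian A] [HasDerivedCategory.{w} A]

/-- `φ` factors through an object in degrees `≤ n`. -/
def FacLE (n : ℤ) {C C' : DerivedCategory A} (φ : C ⟶ C') : Prop :=
  ∃ (B : DerivedCategory A) (_ : B.IsLE n) (a : C ⟶ B) (b : B ⟶ C'), a ≫ b = φ

variable {C C' C'' : DerivedCategory A}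

lemma FacLE.of_isLE (n : ℤ) [hC : C.IsLE n] (φ : C ⟶ C') : FacLE n φ :=
  ⟨C, hC, 𝟙 C, φ, Category.id_comp φ⟩

lemma FacLE.comp {n : ℤ} {φ : C ⟶ C'} (h : FacLE n φ) (c : C' ⟶ C'') : FacLE n (φ ≫ c) := by
  obtain ⟨B, hB, a, b, rfl⟩ := h
  exact ⟨B, hB, a, b ≫ c, by rw [Category.assoc]⟩

/-- Composing with a morphism which is zero on `H^n`. -/
theorem FacLE.step {n : ℤ} {φ : C ⟶ C'} (h : FacLE n φ) (c : C' ⟶ C'')
    (hc : (homologyFunctor A n).map c = 0) : FacLE (n - 1) (φ ≫ c) := by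
  obtain ⟨B, hB, a, b, rfl⟩ := h
  obtain ⟨X, Y, hX, hY, f, g, δ, hT⟩ := exists_trunc C'' (n - 1)
  have hY' : Y.IsGE n := by simpa using hY
  have h1 : (b ≫ c) ≫ g = 0 := by
    apply eq_zero_of_homology n
    rw [Functor.map_comp, Functor.map_comp, hc, comp_zero, zero_comp]
  obtain ⟨ψ, hψ⟩ : ∃ ψ : B ⟶ X, b ≫ c = ψ ≫ f := Triangle.coyoneda_exact₂ _ hT (b ≫ c) h1
  exact ⟨X, hX, a ≫ ψ, f, by rw [Category.assoc, Category.assoc, hψ]⟩

/-- The cone of a morphism which is an isomorphism on `H^0`, from degree `0` to degrees `≥ 0`. -/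
theorem isGE_cone {O Q : DerivedCategory A} {e : O ⟶ C'} {g : C' ⟶ Q} {δ : Q ⟶ O⟦(1 : ℤ)⟧}
    (hT : Triangle.mk e g δ ∈ distTriang (DerivedCategory A)) [O.IsLE 0] [O.IsGE 0] [C'.IsGE 0]
    (he : IsIso ((homologyFunctor A 0).map e)) : Q.IsGE 1 := by
  have hiso : ∀ i : ℤ, i ≤ 0 → IsIso ((homologyFunctor A i).map e) := by
    intro i hi
    rcases hi.lt_or_eq with h | rfl
    · exact ⟨0, (isZero_of_isGE O 0 i h).eq_of_src _ _, (isZero_of_isGE C' 0 i h).eq_of_src _ _⟩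
    · exact he
  have hmono : ∀ i : ℤ, i ≤ 1 → Mono ((homologyFunctor A i).map e) := by
    intro i hi
    rcases hi.lt_or_eq with h | rfl
    · have := hiso i (by lia)
      infer_instance
    · have := isZero_of_isLE O 0 1 (by lia)
      exact ⟨fun _ _ _ => this.eq_of_tgt _ _⟩
  rw [isGE_iff]
  intro i hi
  have h2 := HomologySequence.exact₂ _ hT i
  have h3 := HomologySequence.exact₃ _ hT i (i + 1) rfl
  have e1 : Epi ((homologyFunctor A i).map e) := by
    have := hiso i (by lia)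
    infer_instance
  have z1 : (homologyFunctor A i).map g = 0 := by
    have : (homologyFunctor A i).map e ≫ (homologyFunctor A i).map g = 0 :=
      (ShortComplex.mk _ _ (by
        have := comp_distTriang_mor_zero₁₂ _ hT
        rw [← Functor.map_comp]
        exact (congrArg _ this).trans (Functor.map_zero _ _ _)) : ShortComplex A).zero
    rw [← cancel_epi ((homologyFunctor A i).map e), this, comp_zero]
  have z2 : HomologySequence.δ (Triangle.mk e g δ) i (i + 1) rfl = 0 := by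
    have h4 := HomologySequence.δ_comp (Triangle.mk e g δ) hT i (i + 1) rfl
    have := hmono (i + 1) (by lia)
    exact (cancel_mono ((homologyFunctor A (i + 1)).map e)).1 (h4.trans zero_comp.symm)
  exact h3.isZero_X₂ z1 z2

/-- Factoring through `H^0`. -/
theorem exists_factor {O : DerivedCategory A} {φ : C ⟶ C'} (h : FacLE 0 φ) (e : O ⟶ C')
    [O.IsLE 0] [O.IsGE 0] [C'.IsGE 0] (he : IsIso ((homologyFunctor A 0).map e)) :
    ∃ s : C ⟶ O, s ≫ e = φ := by
  obtain ⟨B, hB, a, b, rfl⟩ := h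
  obtain ⟨Q, g, δ, hT⟩ := distinguished_cocone_triangle e
  have := isGE_cone hT he
  obtain ⟨ψ, hψ⟩ : ∃ ψ : B ⟶ O, b = ψ ≫ e :=
    Triangle.coyoneda_exact₂ _ hT b (zero_of_le_ge (T := Q) 0 1 (by lia) _)
  exact ⟨a ≫ ψ, by rw [Category.assoc, ← hψ]⟩

/-- Uniqueness of factorizations through `H^0`. -/
theorem hom_ext {O B : DerivedCategory A} (e : O ⟶ C') [O.IsLE 0] [O.IsGE 0] [C'.IsGE 0] [B.IsLE 0]
    (he : IsIso ((homologyFunctor A 0).map e)) {s s' : B ⟶ O} (h : s ≫ e = s' ≫ e) : s = s' := by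
  obtain ⟨Q, g, δ, hT⟩ := distinguished_cocone_triangle e
  have := isGE_cone hT he
  have hT' := inv_rot_of_distTriang _ hT
  rw [← sub_eq_zero]
  have h1 : (s - s') ≫ (Triangle.mk e g δ).invRotate.mor₂ = 0 := by
    change (s - s') ≫ e = 0
    rw [Preadditive.sub_comp, h, sub_self]
  obtain ⟨ψ, hψ⟩ : ∃ ψ : B ⟶ Q⟦(-1 : ℤ)⟧, s - s' = ψ ≫ (Triangle.mk e g δ).invRotate.mor₁ :=
    Triangle.coyoneda_exact₂ _ hT' (s - s') h1
  have h2 : (Q⟦(-1 : ℤ)⟧).IsGE 1 := by
    have h3 : (Q⟦(-1 : ℤ)⟧).IsGE 2 :=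
      ⟨(DerivedCategory.TStructure.t.isGE_shift Q 1 (-1) 2 (by lia)).ge⟩
    exact ⟨(DerivedCategory.TStructure.t.isGE_of_ge (Q⟦(-1 : ℤ)⟧) 1 2 (by lia)).ge⟩
  have h4 : ψ = 0 := zero_of_le_ge (T := Q⟦(-1 : ℤ)⟧) 0 1 (by lia) _
  rw [hψ, h4]
  exact zero_comp

end Groth.Agent.RatRes.K383.Trunc
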