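import Groth.Agent.RatRes.K383.Gen
import Groth.Agent.RatRes.K383.Trunc

/-!
# From killing higher direct images to good steps (formal part)

* `facLE_step`: killing `H^n` once more;
* `isGoodG_of_facLE`: if `P(w)` factors through degrees `≤ 0` and `H^0(P(H a₁)) ≅ H^0(o)`, then `H` is a good step.
-/

set_option autoImplicit false

universe w v u

open CategoryTheory CategoryTheory.Limits Pretriangulated DerivedCategory

namespace Groth.Agent.RatRes.K383.Kill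

open Groth.Agent.CurvesC.DerHom Groth.Agent.RatRes.K383.Gen Groth.Agent.RatRes.K383.Trunc

variable {𝒜 : Type u} [Category.{v} 𝒜] [Abelian 𝒜] [HasDerivedCategory.{w} 𝒜]
variable {Z Z₁ Z₂ : Type*} [Category Z] [Category Z₁] [Category Z₂]

/-- Killing `H^n` once more. -/
theorem facLE_step {P : Z ⥤ DerivedCategory 𝒜} {H : Z₁ ⥤ Z} {H' : Z₂ ⥤ Z₁} {a : Z} {a₁ : Z₁}
    {w : a ⟶ H.obj a₁} (hw : IsGen H a₁ a w) {n : ℤ} (h : FacLE n (P.map w))
    (h' : ∀ (K : Z₂) (φ : a₁ ⟶ H'.obj K), (homologyFunctor 𝒜 n).map ((H ⋙ P).map φ) = 0)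
    (K : Z₂) (φ : a ⟶ (H' ⋙ H).obj K) : FacLE (n - 1) (P.map φ) := by
  obtain ⟨c, rfl⟩ := hw.ex (H'.obj K) φ
  rw [Functor.map_comp]
  exact h.step _ (h' K c)

/-- A morphism inducing an isomorphism on `H^0`, for objects in degrees `≥ 0`. -/
theorem exists_hom (o C : DerivedCategory 𝒜) [o.IsLE 0] [o.IsGE 0] [C.IsGE 0]
    (x : (homologyFunctor 𝒜 0).obj C ≅ (homologyFunctor 𝒜 0).obj o) :
    ∃ φ : o ⟶ C, IsIso ((homologyFunctor 𝒜 0).map φ) := by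
  obtain ⟨T, Y, hT0, hY, f, g, δ, hT⟩ := exists_trunc C 0
  have h1 : IsIso ((homologyFunctor 𝒜 0).map f) := isIso_trunc₁ hT 0 0 le_rfl
  have h2 : T.IsGE 0 := isGE_trunc₁ hT 0 0 (by lia)
  obtain ⟨M, ⟨e⟩⟩ := exists_iso_singleFunctor_obj_of_isGE_of_isLE T 0
  obtain ⟨N, ⟨e'⟩⟩ := exists_iso_singleFunctor_obj_of_isGE_of_isLE o 0
  let y : N ≅ M := ((singleFunctorCompHomologyFunctorIso 𝒜 0).app N).symm ≪≫
    (homologyFunctor 𝒜 0).mapIso e'.symm ≪≫ x.symm ≪≫ (asIso ((homologyFunctor 𝒜 0).map f)).symm ≪≫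
    (homologyFunctor 𝒜 0).mapIso e ≪≫ (singleFunctorCompHomologyFunctorIso 𝒜 0).app M
  refine ⟨(e' ≪≫ (singleFunctor 𝒜 0).mapIso y ≪≫ e.symm).hom ≫ f, ?_⟩
  rw [Functor.map_comp]
  infer_instance

omit [Abelian 𝒜] [HasDerivedCategory.{w} 𝒜] in
/-- Two-sided inverses from commutativity. -/
lemma isIso_of_comm {V W : 𝒜} (hc : ∀ f g : W ⟶ W, f ≫ g = g ≫ f) (x : V ≅ W) (f : W ⟶ V) (g : V ⟶ V)
    (h : IsIso (f ≫ g)) : IsIso f := by
  let a : W ⟶ W := f ≫ x.hom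
  let b : W ⟶ W := x.inv ≫ g ≫ inv (f ≫ g)
  have h1 : a ≫ b = 𝟙 W := by
    simp only [a, b, Category.assoc, Iso.hom_inv_id_assoc]
    rw [← Category.assoc]
    exact IsIso.hom_inv_id (f ≫ g)
  have h2 : b ≫ a = 𝟙 W := by rw [← hc, h1]
  have h3 : IsIso a := ⟨b, h1, h2⟩
  have h4 : f = a ≫ x.inv := by simp [a]
  rw [h4]
  infer_instance

/-- From factorizations through degrees `≤ 0` to good steps. -/
theorem isGoodG_of_facLE {P : Z ⥤ DerivedCategory 𝒜} {H : Z₁ ⥤ Z} {a : Z} {a₁ : Z₁} {o : DerivedCategory 𝒜}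
    {v : o ⟶ P.obj a} {w : a ⟶ H.obj a₁} (hv : IsGen P a o v) (hw : IsGen H a₁ a w)
    (h : FacLE 0 (P.map w)) [o.IsLE 0] [o.IsGE 0] [(P.obj (H.obj a₁)).IsGE 0]
    (x : (homologyFunctor 𝒜 0).obj (P.obj (H.obj a₁)) ≅ (homologyFunctor 𝒜 0).obj o)
    (hc : ∀ f g : (homologyFunctor 𝒜 0).obj o ⟶ (homologyFunctor 𝒜 0).obj o, f ≫ g = g ≫ f) :
    IsGoodG P H a o := by
  obtain ⟨φ, hφ⟩ := exists_hom o (P.obj (H.obj a₁)) x
  obtain ⟨c, hc'⟩ := (hw.comp hv).ex a₁ φ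
  have h1 : (v ≫ P.map w) ≫ P.map (H.map c) = φ := hc'
  have h2 : IsIso ((homologyFunctor 𝒜 0).map (v ≫ P.map w)) := by
    have h3 : IsIso ((homologyFunctor 𝒜 0).map (v ≫ P.map w) ≫ (homologyFunctor 𝒜 0).map (P.map (H.map c))) := by
      rw [← Functor.map_comp, h1]
      exact hφ
    exact isIso_of_comm hc x _ _ h3
  obtain ⟨s, hs⟩ := exists_factor h (v ≫ P.map w) h2
  refine isGoodG_of hv hw ⟨s, ?_, by simpa only [Category.assoc] using hs⟩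
  refine hom_ext (v ≫ P.map w) h2 ?_
  rw [Category.assoc, hs, Category.id_comp]

end Groth.Agent.RatRes.K383.Kill
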