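import Groth.Agent.RatRes.K383.GenSch
import Groth.Agent.RatRes.K383.Tower
import Groth.Agent.Ega2.QCohLocal
import Groth.Agent.S0959
import Groth.Agent.CohqB.RelVan
import Groth.Agent.PerfA.PerfLocal
import Groth.Agent.Dcoh.Restrict

/-!
# Killing higher direct images locally

If over an open `V ⊂ W` the morphism `h : W' ⟶ W` factors through `m : M ⟶ V`, then `O_W ⟶ Rh_* K` factors, over `V`,
through `Rm_* O_M`.
-/

set_option autoImplicit false

universe u

open CategoryTheory CategoryTheory.Limits AlgebraicGeometry Pretriangulated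

attribute [local instance] HasDerivedCategory.standard

namespace Groth.Agent.RatRes.K383.LocalKill

open Groth.Agent.PerfC.LpullTens Groth.Agent.PerfC.DTens Groth.Agent.Dcoh.DerSch
  Groth.Agent.Dual.H360.ProjAff Groth.Agent.Dcoh.DerPull
  Groth.Agent.RatRes.K383.Gen Groth.Agent.RatRes.K383.GenSch
open Groth.Agent.PerfA.Restrict (restrictD isIso_of_restrict_opens)
open AlgebraicGeometry.Scheme.Modules (restrictFunctor)

variable {X W W' M : Scheme.{u}}

/-- A morphism of modules which is zero on an open cover is zero. -/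
theorem eq_zero_of_restrict_opens {F G : X.Modules} (φ : F ⟶ G)
    (h : ∀ x : X, ∃ U : X.Opens, x ∈ U ∧ (restrictFunctor U.ι).map φ = 0) : φ = 0 := by
  have h1 : IsIso (kernel.ι φ) := by
    refine isIso_of_restrict_opens _ fun x => ?_
    obtain ⟨U, hx, hU⟩ := h x
    refine ⟨U, hx, ?_⟩
    have h2 : IsIso (kernel.ι ((restrictFunctor U.ι).map φ)) :=
      ⟨kernel.lift _ (𝟙 _) (by rw [hU, comp_zero]), by
        rw [← cancel_mono (kernel.ι ((restrictFunctor U.ι).map φ)), Category.assoc, kernel.lift_ι,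
          Category.comp_id, Category.id_comp], kernel.lift_ι _ _ _⟩
    rw [← kernelComparison_comp_ι]
    infer_instance
  rw [← cancel_epi (kernel.ι φ), kernel.condition, comp_zero]

/-- `(𝒪_W)|_V ≅ 𝒪_V`. -/
theorem nonempty_restrict_unit (V : W.Opens) :
    Nonempty ((restrictD V.ι).obj (DerivedCategory.Q.obj (unitCx W)) ≅
      DerivedCategory.Q.obj (unitCx V.toScheme)) :=
  ⟨(restrictD V.ι).mapIso (inDIso (Coh.structureModule W)).symm ≪≫ PerfA.PerfLocal.restrictInD V.ι _ ≪≫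
    (DerivedCategory.singleFunctor _ 0).mapIso (Dcoh.Restrict.restrictUnit V.ι) ≪≫
    inDIso (Coh.structureModule V.toScheme)⟩

/-- If over `V` the morphism `h` factors through `m : M ⟶ V`, then `O_W ⟶ Rh_* K` factors, over `V`, through
`Rm_* O_M`. -/
theorem exists_fac (h : W' ⟶ W) (V : W.Opens) (m : M ⟶ V.toScheme) (c : (h ⁻¹ᵁ V).toScheme ⟶ M)
    (hc : c ≫ m = h ∣_ V) [DCoh.HasRpush h] [DCoh.HasRpush m] [DCoh.HasLpull m] (K : DCoh.D W')
    (φ : DerivedCategory.Q.obj (unitCx W) ⟶ (DCoh.Rpush h).obj K) :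
    ∃ (a : (restrictD V.ι).obj (DerivedCategory.Q.obj (unitCx W)) ⟶
        (DCoh.Rpush m).obj (DerivedCategory.Q.obj (unitCx M)))
      (b : (DCoh.Rpush m).obj (DerivedCategory.Q.obj (unitCx M)) ⟶
        (restrictD V.ι).obj ((DCoh.Rpush h).obj K)), a ≫ b = (restrictD V.ι).map φ := by
  have : DCoh.HasRpush (h ∣_ V) := hasRpush _
  have : DCoh.HasRpush c := hasRpush _
  have : DCoh.HasRpush (c ≫ m) := hasRpush _
  obtain ⟨β⟩ := exists_rpushRestrictIso h (h ∣_ V) (h ⁻¹ᵁ V).ι V.ι (isPullback_morphismRestrict h V).flip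
  obtain ⟨γ⟩ := Tower.nonempty_congr hc
  obtain ⟨u⟩ := nonempty_restrict_unit V
  let θ : (restrictD V.ι).obj ((DCoh.Rpush h).obj K) ≅
      (DCoh.Rpush m).obj ((DCoh.Rpush c).obj ((restrictD (h ⁻¹ᵁ V).ι).obj K)) :=
    β.app K ≪≫ γ.symm.app _ ≪≫ (rpushComp c m).symm.app _
  obtain ⟨x, hx⟩ := (isGen m).ex _ (u.inv ≫ (restrictD V.ι).map φ ≫ θ.hom)
  refine ⟨u.hom ≫ ((lpullAdj m).unit.app (DerivedCategory.Q.obj (unitCx V.toScheme)) ≫
    (DCoh.Rpush m).map (lpullUnit m).hom), (DCoh.Rpush m).map x ≫ θ.inv, ?_⟩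
  rw [Category.assoc, ← Category.assoc _ _ θ.inv, hx]
  simp

/-- Local vanishing of the morphisms induced on higher direct images. -/
theorem restrict_eq_zero (p : W ⟶ X) (h : W' ⟶ W) (U : X.Opens) (m : M ⟶ (p ⁻¹ᵁ U).toScheme)
    (c : (h ⁻¹ᵁ (p ⁻¹ᵁ U)).toScheme ⟶ M) (hc : c ≫ m = h ∣_ (p ⁻¹ᵁ U)) [DCoh.HasRpush p] [DCoh.HasRpush h]
    [DCoh.HasRpush m] [DCoh.HasLpull m] [DCoh.HasRpush (m ≫ p ∣_ U)] (i : ℤ)
    (hz : IsZero ((DerivedCategory.homologyFunctor U.toScheme.Modules i).obj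
      ((DCoh.Rpush (m ≫ p ∣_ U)).obj (DerivedCategory.Q.obj (unitCx M)))))
    (K : DCoh.D W') (φ : DerivedCategory.Q.obj (unitCx W) ⟶ (DCoh.Rpush h).obj K) :
    (restrictFunctor U.ι).map ((DerivedCategory.homologyFunctor X.Modules i).map ((DCoh.Rpush p).map φ)) = 0 := by
  have : DCoh.HasRpush (p ∣_ U) := hasRpush _
  obtain ⟨a, b, hab⟩ := exists_fac h (p ⁻¹ᵁ U) m c hc K φ
  obtain ⟨β⟩ := exists_rpushRestrictIso p (p ∣_ U) (p ⁻¹ᵁ U).ι U.ι (isPullback_morphismRestrict p U).flip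
  have h1 : (restrictD U.ι).map ((DCoh.Rpush p).map φ) =
      (β.hom.app _ ≫ (DCoh.Rpush (p ∣_ U)).map a ≫ (rpushComp m (p ∣_ U)).hom.app _) ≫
      ((rpushComp m (p ∣_ U)).inv.app _ ≫ (DCoh.Rpush (p ∣_ U)).map b ≫ β.inv.app _) := by
    have n := β.hom.naturality φ
    have n' : (restrictD U.ι).map ((DCoh.Rpush p).map φ) =
        β.hom.app _ ≫ (DCoh.Rpush (p ∣_ U)).map ((restrictD (p ⁻¹ᵁ U).ι).map φ) ≫ β.inv.app _ := by
      rw [← reassoc_of% n, Iso.hom_inv_id_app]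
      exact (Category.comp_id _).symm
    rw [n', ← hab, Functor.map_comp]
    simp
  have h2 : (DerivedCategory.homologyFunctor U.toScheme.Modules i).map
      ((restrictD U.ι).map ((DCoh.Rpush p).map φ)) = 0 := by
    rw [h1, Functor.map_comp, hz.eq_of_tgt ((DerivedCategory.homologyFunctor U.toScheme.Modules i).map
      (β.hom.app _ ≫ (DCoh.Rpush (p ∣_ U)).map a ≫ (rpushComp m (p ∣_ U)).hom.app _)) 0, zero_comp]
  have h3 := (PerfA.ExactD.mapHomology (restrictFunctor U.ι) i).hom.naturality ((DCoh.Rpush p).map φ)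
  have h4 : (restrictFunctor U.ι).map ((DerivedCategory.homologyFunctor X.Modules i).map ((DCoh.Rpush p).map φ)) =
      (PerfA.ExactD.mapHomology (restrictFunctor U.ι) i).inv.app _ ≫
        (DerivedCategory.homologyFunctor U.toScheme.Modules i).map
          ((restrictD U.ι).map ((DCoh.Rpush p).map φ)) ≫
        (PerfA.ExactD.mapHomology (restrictFunctor U.ι) i).hom.app _ := by
    have h5 : (DerivedCategory.homologyFunctor U.toScheme.Modules i).map
          ((restrictD U.ι).map ((DCoh.Rpush p).map φ)) ≫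
        (PerfA.ExactD.mapHomology (restrictFunctor U.ι) i).hom.app _ =
      (PerfA.ExactD.mapHomology (restrictFunctor U.ι) i).hom.app _ ≫
        (restrictFunctor U.ι).map ((DerivedCategory.homologyFunctor X.Modules i).map
          ((DCoh.Rpush p).map φ)) := h3
    rw [h5, Iso.inv_hom_id_app_assoc]
  rw [h4, h2, zero_comp, comp_zero]

/-- Killing higher direct images, checked on an affine cover. -/
theorem kills_of_cover (p : W ⟶ X) (h : W' ⟶ W) [DCoh.HasRpush p] [DCoh.HasRpush h]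
    (H : ∀ x : X, ∃ (U : X.Opens) (M : Scheme.{u}) (m : M ⟶ (p ⁻¹ᵁ U).toScheme)
      (c : (h ⁻¹ᵁ (p ⁻¹ᵁ U)).toScheme ⟶ M), x ∈ U ∧ IsAffineOpen U ∧ QuasiCompact (m ≫ p ∣_ U) ∧
        QuasiSeparated (m ≫ p ∣_ U) ∧ c ≫ m = h ∣_ (p ⁻¹ᵁ U) ∧
        ∀ n : ℕ, Subsingleton (Coh.HH M (Coh.structureModule M) (n + 1))) : Kills h p := by
  refine ⟨fun K φ i hi => eq_zero_of_restrict_opens _ fun x => ?_⟩
  obtain ⟨U, M, m, c, hx, hU, hq, hqs, hc, hM⟩ := H x
  refine ⟨U, hx, ?_⟩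
  have : IsAffine U.toScheme := hU
  have : DCoh.HasRpush m := hasRpush _
  have : DCoh.HasLpull m := Groth.Agent.S0959.result m
  have : DCoh.HasRpush (m ≫ p ∣_ U) := hasRpush _
  have : HasInjectiveResolutions M.Modules := hasInjectiveResolutions M
  refine restrict_eq_zero p h U m c hc i ?_ K φ
  obtain ⟨n, rfl⟩ : ∃ n : ℕ, i = ((n + 1 : ℕ) : ℤ) := ⟨i.toNat - 1, by omega⟩
  have h1 := Groth.Agent.CohqB.RelVan.isZero_Rpush (m ≫ p ∣_ U) (Coh.structureModule M)
    (Groth.Agent.Ega2.QCohLocal.isQCoh_structureModule M) (n + 1) (hM n)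
  exact IsZero.of_iso h1 ((DerivedCategory.homologyFunctor _ ((n + 1 : ℕ) : ℤ)).mapIso
    ((DCoh.Rpush (m ≫ p ∣_ U)).mapIso (inDIso (Coh.structureModule M)).symm) ≪≫
    PerfC.RpushSingle.iso (m ≫ p ∣_ U) (n + 1) (Coh.structureModule M))

end Groth.Agent.RatRes.K383.LocalKill
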