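import Groth.Agent.RatRes.K383.SmoothDC
import Groth.Agent.RatRes.K383.PushUnit
import Groth.Agent.RatRes.K383.Degree
import Groth.Prelude.Def_Canon

/-!
# Direct images of dualizing objects and of top differential forms

* `nonempty_rpush_dc`: `Rf_* D_X ≅ D_Y` for `f : X ⟶ Y` proper with `Rf_* O_X ≅ O_Y`;
* `topDiff`: `R^p f_* ω_X = 0` for `p > 0` and `f_* ω_X ≅ ω_Y` for `X`, `Y` smooth of relative dimension `d`
  over a Noetherian base and `f` proper with `Rf_* O_X ≅ O_Y`.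
-/

set_option autoImplicit false

universe u

open CategoryTheory CategoryTheory.Limits AlgebraicGeometry

attribute [local instance] HasDerivedCategory.standard

namespace Groth.Agent.RatRes.K383.SmoothPush

open Groth.Agent.Ega1.ADualUniv Groth.Agent.RatRes.K383.DC Groth.Agent.RatRes.K383.Degree

variable {X Y S : Scheme.{u}}

/-- `Rf_* D_X ≅ D_Y` for `f : X ⟶ Y` proper with `Rf_* O_X ≅ O_Y`. -/
theorem nonempty_rpush_dc [IsNoetherian S] (f : X ⟶ Y) [IsProper f] (b : Y ⟶ S) [DCoh.HasRpush f]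
    (h : Nonempty ((DCoh.Rpush f).obj (DCoh.inD X (Coh.structureModule X)) ≅
      DCoh.inD Y (Coh.structureModule Y))) {DY : DCoh.D Y} (hDY : IsDC b DY) {DX : DCoh.D X}
    (hDX : IsDC (f ≫ b) DX) : Nonempty ((DCoh.Rpush f).obj DX ≅ DY) := by
  have : DCoh.HasLpull f := Groth.Agent.S0959.result f
  obtain ⟨τ, hτ⟩ := hDY.univ f hDX
  have := PushUnit.isIso_of_isUniv f h hDY.qcoh hτ
  exact ⟨asIso τ⟩

/-- Higher direct images of top differential forms under a proper morphism with `Rf_* O_X ≅ O_Y`. -/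
theorem topDiff [IsNoetherian S] (d : ℕ) (f : X ⟶ Y) [IsProper f] (a : X ⟶ S) (b : Y ⟶ S)
    (hf : f ≫ b = a) [IsSeparated a] [QuasiCompact a] [SmoothOfRelativeDimension d a]
    [IsSeparated b] [QuasiCompact b] [SmoothOfRelativeDimension d b]
    [HasInjectiveResolutions X.Modules]
    (h : ∀ p : ℕ, 0 < p → IsZero ((Coh.Rpush f p).obj (Coh.structureModule X)))
    (h0 : IsIso (ClSub.unitToPush f))
    (ωX : X.Modules) (hωX : Canon.IsTopDiff a d ωX) (ωY : Y.Modules) (hωY : Canon.IsTopDiff b d ωY) :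
    (∀ p : ℕ, 0 < p → IsZero ((Coh.Rpush f p).obj ωX)) ∧ Nonempty ((Coh.push f).obj ωX ≅ ωY) := by
  subst hf
  have : Smooth (f ≫ b) := SmoothOfRelativeDimension.smooth d _
  have : Smooth b := SmoothOfRelativeDimension.smooth d _
  have : DCoh.HasRpush f := Groth.Agent.Dcoh.DerSch.hasRpush f
  obtain ⟨DX, hDX⟩ := exists_isDC (f ≫ b)
  obtain ⟨DY, hDY⟩ := exists_isDC b
  obtain ⟨e⟩ := nonempty_rpush_dc f b (nonempty_rpush_structure f h h0) hDY hDX
  obtain ⟨eX⟩ := SmoothDC.isDC_smooth d (f ≫ b) hDX ωX hωX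
  obtain ⟨eY⟩ := SmoothDC.isDC_smooth d b hDY ωY hωY
  exact zero_and_iso f (d : ℤ) ⟨(DCoh.Rpush f).mapIso eX.symm ≪≫ e ≪≫ eY⟩

end Groth.Agent.RatRes.K383.SmoothPush
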