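import Groth.Agent.RatRes.K383.TameKill
import Groth.Agent.RatRes.K383.SmoothPush
import Groth.Agent.RatRes.K97.Single
import Groth.Agent.RatRes.K162.KPiece

/-!
# The rows on higher direct images under properly birational equivalence
-/

set_option autoImplicit false

universe u

open CategoryTheory CategoryTheory.Limits AlgebraicGeometry

attribute [local instance] HasDerivedCategory.standard

namespace Groth.Agent.RatRes.K383.Rows

open Groth.Agent.CurvesC.Modif Groth.Agent.RatRes.K383.GoodMod Groth.Agent.RatRes.K383.DC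
open Groth.Agent.Dcoh.DerSch Groth.Agent.PerfC.LpullTens Groth.Agent.PerfC.DTens
  Groth.Agent.Dual.H360.ProjAff

variable {X Y Z S : Scheme.{u}}

theorem key (k : Type u) [Field k] : K97.Acyclic.Key k := fun a _ _ hT g _ _ _ q hq hX hfib n =>
  K162.KPiece.key k a hT g q hq hX hfib n

/-- `O_Y ⟶ f_* O_X` is an isomorphism for a modification of a normal scheme. -/
theorem isIso_unitToPush [IsIntegral Y] (hY : Pi1.IsNormalScheme Y) (f : X ⟶ Y) (hf : IsModif f) :
    IsIso (ClSub.unitToPush f) := by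
  rw [Scheme.Modules.Hom.isIso_iff_isIso_app]
  intro U
  rw [ConcreteCategory.isIso_iff_bijective]
  have := K97.ModTools.isIso_app hY hf U
  exact ConcreteCategory.bijective_of_isIso (f.app U)

/-- From `Rf_* O_X ≅ Rg_* O_Y` to higher direct images. -/
theorem nonempty_rpush_O (f : X ⟶ S) (g : Y ⟶ S) [HasInjectiveResolutions X.Modules]
    [HasInjectiveResolutions Y.Modules] [DCoh.HasRpush f] [DCoh.HasRpush g]
    (e : Nonempty ((DCoh.Rpush f).obj (DerivedCategory.Q.obj (unitCx X)) ≅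
      (DCoh.Rpush g).obj (DerivedCategory.Q.obj (unitCx Y)))) (i : ℕ) :
    Nonempty ((Coh.Rpush f i).obj (Coh.structureModule X) ≅ (Coh.Rpush g i).obj (Coh.structureModule Y)) := by
  obtain ⟨e⟩ := e
  exact ⟨(PerfC.RpushSingle.iso f i (Coh.structureModule X)).symm ≪≫
    (DerivedCategory.homologyFunctor S.Modules (i : ℤ)).mapIso
      ((DCoh.Rpush f).mapIso (inDIso (Coh.structureModule X)) ≪≫ e ≪≫
        (DCoh.Rpush g).mapIso (inDIso (Coh.structureModule Y)).symm) ≪≫
    PerfC.RpushSingle.iso g i (Coh.structureModule Y)⟩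

/-- From `Rf_* D_X ≅ Rg_* D_Y` to higher direct images, for `D_X`, `D_Y` concentrated in degree `-d`. -/
theorem nonempty_rpush_D (f : X ⟶ S) (g : Y ⟶ S) [HasInjectiveResolutions X.Modules]
    [HasInjectiveResolutions Y.Modules] [DCoh.HasRpush f] [DCoh.HasRpush g] {DX : DCoh.D X} {DY : DCoh.D Y}
    (e : Nonempty ((DCoh.Rpush f).obj DX ≅ (DCoh.Rpush g).obj DY)) (d : ℕ) {ωX : X.Modules} {ωY : Y.Modules}
    (eX : Nonempty (DX ≅ (DerivedCategory.singleFunctor X.Modules (-(d : ℤ))).obj ωX))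
    (eY : Nonempty (DY ≅ (DerivedCategory.singleFunctor Y.Modules (-(d : ℤ))).obj ωY)) (i : ℕ) :
    Nonempty ((Coh.Rpush f i).obj ωX ≅ (Coh.Rpush g i).obj ωY) := by
  obtain ⟨e⟩ := e
  obtain ⟨eX⟩ := eX
  obtain ⟨eY⟩ := eY
  obtain ⟨e1⟩ := K97.Single.rpush_iso f DX ωX d eX i
  obtain ⟨e2⟩ := K97.Single.rpush_iso g DY ωY d eY i
  exact ⟨e1.symm ≪≫ (DerivedCategory.homologyFunctor S.Modules ((i : ℤ) - d)).mapIso e ≪≫ e2⟩

/-- Dualizing objects of smooth schemes. -/
theorem nonempty_smooth {T : Scheme.{u}} [IsNoetherian T] (d : ℕ) (a : X ⟶ T) [IsSeparated a] [QuasiCompact a]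
    [SmoothOfRelativeDimension d a] {D : DCoh.D X} (hD : IsDC a D) (ωX : X.Modules) (hωX : Canon.IsTopDiff a d ωX) :
    Nonempty (D ≅ (DerivedCategory.singleFunctor X.Modules (-(d : ℤ))).obj ωX) := by
  obtain ⟨e⟩ := SmoothDC.isDC_smooth d a hD ωX hωX
  exact ⟨e ≪≫ K97.Single.shiftIso d ωX⟩

/-- The dualizing complex of a proper scheme. -/
theorem isDC_dualizingCx {T : Scheme.{u}} (a : X ⟶ T) [IsProper a] [DCoh.HasRpush a]
    (ha : DCoh.RpushPreservesQCoh a) [DCoh.HasShriek a ha] (O : DCoh.DQCoh T)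
    (hO : Nonempty (O.obj ≅ DCoh.inD T (Coh.structureModule T))) : IsDC a (DCoh.dualizingCx a ha O) := by
  obtain ⟨e⟩ := hO
  exact IsDC.of_univ ((Ega1.ADualUniv.univ_of_adj (h := ha) (DCoh.shriekAdj a ha) O).of_iso_right e)

/-- The vanishing theorem for the structure sheaf, over an arbitrary field. -/
theorem rpush_O (k : Type u) [Field k] {X Y : Scheme.{u}} (HX : HasGood X) (HY : HasGood Y) [IsIntegral Y]
    (hY : Pi1.IsNormalScheme Y) (f : X ⟶ Y) (hf : IsModif f) [HasInjectiveResolutions X.Modules] :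
    (∀ p : ℕ, 0 < p → IsZero ((Coh.Rpush f p).obj (Coh.structureModule X))) ∧ IsIso (ClSub.unitToPush f) :=
  ⟨fun p hp => rpush_zero HX HY f hf p hp, isIso_unitToPush hY f hf⟩

/-- Good modifications of tame quotients. -/
theorem hasGood_of_tame (k : Type u) [Field k] (a : X ⟶ Spec (CommRingCat.of k)) [IsSeparated a] [QuasiCompact a]
    [LocallyOfFiniteType a] [IsIntegral X] (hX : Pi1.IsNormalScheme X)
    (h : ∃ (X' : Scheme.{u}) (_ : IsIntegral X') (f' : X' ⟶ X), Smooth (f' ≫ a) ∧ IsFinite f' ∧ Surjective f' ∧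
      ((f'.residueDegree (genericPoint X') : ℕ) : k) ≠ 0) : HasGood X := by
  obtain ⟨X', hX', f', h1, h2, h3, h4⟩ := h
  exact TameKill.hasGood_tame k (key k) a hX f' h4

end Groth.Agent.RatRes.K383.Rows
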