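import Groth.Agent.RatRes.K383.Rows
import Groth.Agent.RatRes.K97.ProperRows
import Groth.Agent.RatRes.K97.TameCM

/-!
# Dualizing complexes of proper tame quotients
-/

set_option autoImplicit false

universe u

open CategoryTheory CategoryTheory.Limits AlgebraicGeometry

attribute [local instance] HasDerivedCategory.standard

namespace Groth.Agent.RatRes.K383.Rows34

variable {k : Type u} [Field k] {X : Scheme.{u}}

/-- The dualizing complex of a proper tame quotient of dimension `d` is its dualizing sheaf in degree `-d`. -/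
theorem nonempty_tame (d : ℕ) (a : X ⟶ Spec (CommRingCat.of k)) [IsProper a] [IsIntegral X]
    (hX : Pi1.IsNormalScheme X)
    (h : ∃ (X' : Scheme.{u}) (_ : IsIntegral X') (f' : X' ⟶ X), Smooth (f' ≫ a) ∧ IsFinite f' ∧ Surjective f' ∧
      ((f'.residueDegree (genericPoint X') : ℕ) : k) ≠ 0) (hd : topologicalKrullDim X = d)
    [DCoh.HasRpush a] (ha : DCoh.RpushPreservesQCoh a) [DCoh.HasShriek a ha]
    (O : DCoh.DQCoh (Spec (CommRingCat.of k)))
    (hO : Nonempty (O.obj ≅ DCoh.inD (Spec (CommRingCat.of k)) (Coh.structureModule (Spec (CommRingCat.of k))))) :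
    Nonempty (DCoh.dualizingCx a ha O ≅
      (DerivedCategory.singleFunctor X.Modules (-(d : ℤ))).obj (DCoh.dualizingMod a ha O d)) := by
  obtain ⟨X', hX', f', h1, h2, h3, h4⟩ := h
  exact K97.Single.nonempty_iso_single _ _ fun i hi =>
    K97.ProperRows.concentrated a (K97.TameCM.isCM_stalk_of_tame a hX f' h1 h4) d hd ha (DCoh.shriekAdj a ha) O hO i hi

end Groth.Agent.RatRes.K383.Rows34
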