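import Groth.Agent.RatRes.K383.GoodMod
import Groth.Agent.RatRes.K162.Dominate
import Groth.Agent.UnramB.SmoothLoc

/-!
# Smooth schemes over a field have good modifications
-/

set_option autoImplicit false

universe u

open CategoryTheory CategoryTheory.Limits AlgebraicGeometry

attribute [local instance] HasDerivedCategory.standard

namespace Groth.Agent.RatRes.K383.SmoothKill

open Groth.Agent.CurvesC.Modif Groth.Agent.RatRes.K383.GoodMod Groth.Agent.RatRes.K383.LocalKill

variable (k : Type u) [Field k]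

/-- Étale coordinates over a field. -/
theorem exists_etale {X : Scheme.{u}} (a : X ⟶ Spec (CommRingCat.of k)) [Smooth a] (x : X) :
    ∃ (U : X.Opens) (n : ℕ) (e : U.toScheme ⟶ 𝔸(ULift.{u} (Fin n); Spec (CommRingCat.of k))),
      IsAffineOpen U ∧ x ∈ U ∧ Etale e := by
  obtain ⟨U, V, e, n, g, hxU, hUW, -, hU, hV, hg, hc⟩ :=
    Groth.Agent.UnramB.SmoothLoc.exists_etale_affineSpace_le a x ⊤ trivial ⊤ trivial
  have hm : IsOpenImmersion (AffineSpace.map (ULift.{u} (Fin n)) V.ι) :=
    MorphismProperty.of_isPullback (P := @IsOpenImmersion) (AffineSpace.isPullback_map V.ι).flip inferInstance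
  have hm' : Etale (AffineSpace.map (ULift.{u} (Fin n)) V.ι) := inferInstance
  exact ⟨U, n, g ≫ AffineSpace.map (ULift.{u} (Fin n)) V.ι, hU, hxU, inferInstance⟩

/-- Smooth schemes: killing higher direct images by modifications. -/
theorem hasKill_smooth (hK : K97.Acyclic.Key k) {X : Scheme.{u}} [IsIntegral X]
    (a : X ⟶ Spec (CommRingCat.of k)) [Smooth a] [QuasiCompact a] [QuasiSeparated a] : HasKill X := by
  have : CompactSpace X := QuasiCompact.compactSpace_of_compactSpace a
  refine ⟨fun {Z} p hp => ?_⟩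
  have := hp.proper
  have := hp.integral
  have := hp.surjective
  choose U n e hU hxU he using exists_etale k a
  have key : ∀ x : X, ∃ (M : Scheme.{u}) (m : M ⟶ (p ⁻¹ᵁ U x).toScheme), IsModif m ∧ Pi1.IsNormalScheme M ∧
      ∀ i : ℕ, Subsingleton (Coh.HH M (Coh.structureModule M) (i + 1)) := by
    intro x
    have hne : Nonempty (U x).toScheme := ⟨⟨x, hxU x⟩⟩
    have : IsAffine (U x).toScheme := hU x
    have := he x
    exact K97.Acyclic.models k hK (n x) (e x) (p ∣_ U x) (K97.ModTools.isModif_restrict hp (U x) ⟨x, hxU x⟩)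
  choose M m hm hMn hMv using key
  obtain ⟨s, -, hs⟩ := isCompact_univ.elim_nhds_subcover (fun x => (U x : Set X))
    (fun x _ => (U x).isOpen.mem_nhds (hxU x))
  obtain ⟨Z', h, hh, hn, hc⟩ := K162.Dominate.exists_dominate (ι := s) (fun j => p ⁻¹ᵁ U j.1)
    (fun j => M j.1) (fun j => m j.1) k (p ≫ a) (fun j _ => hm j.1)
  refine ⟨Z', h, hh, hn, fun {_} {_} => kills_of_cover p h fun x => ?_⟩
  obtain ⟨j, hj, hx⟩ : ∃ j ∈ s, x ∈ U j := by simpa using hs (Set.mem_univ x)
  obtain ⟨c, hc⟩ := hc ⟨j, hj⟩ (by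
    obtain ⟨z, hz⟩ := p.surjective x
    exact ⟨z, by
      change p z ∈ U j
      rwa [hz]⟩)
  have := (hm j).proper
  exact ⟨U j, M j, m j, c, hx, hU j, inferInstance, inferInstance, hc, hMv j⟩

theorem hasGood_smooth (hK : K97.Acyclic.Key k) {X : Scheme.{u}} [IsIntegral X]
    (a : X ⟶ Spec (CommRingCat.of k)) [Smooth a] [QuasiCompact a] [QuasiSeparated a] : HasGood X := by
  have : CompactSpace X := QuasiCompact.compactSpace_of_compactSpace a
  exact hasGood_of_hasKill (Sga4B.SmoothNormal.isNormalScheme_of_smooth a) (hasKill_smooth k hK a)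

end Groth.Agent.RatRes.K383.SmoothKill
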