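import Groth.Agent.RatRes.K383.SmoothKill
import Groth.Agent.RatRes.K383.FiniteKill
import Groth.Agent.RatRes.K97.TameTr

/-!
# Tame quotients have good modifications
-/

set_option autoImplicit false

universe u

open CategoryTheory CategoryTheory.Limits AlgebraicGeometry

attribute [local instance] HasDerivedCategory.standard

namespace Groth.Agent.RatRes.K383.TameKill

open Groth.Agent.CurvesC.Modif Groth.Agent.RatRes.K383.GoodMod Groth.Agent.RatRes.K383.FiniteKill
open Groth.Agent.Dcoh.DerSch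

variable (k : Type u) [Field k]

lemma isUnit_natCast {X : Scheme.{u}} (a : X ⟶ Spec (CommRingCat.of k)) (n : ℕ) (hn : (n : k) ≠ 0) :
    IsUnit ((n : ℕ) : Γ(X, ⊤)) := by
  let φ : k →+* Γ(X, ⊤) := ((Scheme.ΓSpecIso (CommRingCat.of k)).inv ≫ a.appTop).hom
  have h := (IsUnit.mk0 (n : k) hn).map φ
  rwa [map_natCast] at h

/-- Targets of finite morphisms of invertible degree: killing higher direct images by modifications. -/
theorem hasKill_of_finite {X X' : Scheme.{u}} [IsIntegral X] [IsIntegral X'] (a : X ⟶ Spec (CommRingCat.of k))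
    [LocallyOfFiniteType a] [CompactSpace X] [QuasiSeparatedSpace X] (f' : X' ⟶ X) [IsFinite f'] [Surjective f']
    (hX' : HasKill X') (hdeg : ((f'.residueDegree (genericPoint X') : ℕ) : k) ≠ 0) : HasKill X := by
  refine ⟨fun {W} p hp => ?_⟩
  obtain ⟨W₁, r₁, b, hr₁, hb, H⟩ := K97.TameDom.exists_strict_then_finite k a f' hp
  obtain ⟨W₁', h₁, hh₁, -, hk⟩ := hX'.ex r₁ hr₁
  obtain ⟨W', W'', h, a', c, hh, hn', ha', hsa', hc, hn'', e, hint, hdeg'⟩ := H W₁' h₁ hh₁
  refine ⟨W', h, hh, hn', fun {_} {_} => ?_⟩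
  have := hh.integral
  have := hr₁.proper
  have := hh₁.proper
  have := hc.proper
  have hn : IsUnit ((a'.residueDegree (genericPoint W'') : ℕ) : Γ(W', ⊤)) :=
    isUnit_natCast k (h ≫ p ≫ a) _ (by rwa [hdeg'])
  obtain ⟨τ, hτ, -⟩ := K97.TameTr.exists_tr a' hn' hn'' hn
  have : DCoh.HasRpush a' := hasRpush _
  have : DCoh.HasRpush h₁ := hasRpush _
  have : DCoh.HasRpush r₁ := hasRpush _
  have : DCoh.HasLpull h := Groth.Agent.S0959.result h
  have : DCoh.HasLpull b := Groth.Agent.S0959.result b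
  obtain ⟨v, t, ht⟩ := exists_retraction_of_finite a' (ClSub.unitToPush a') τ hτ
  exact kills_of_finite p f' r₁ b hb h₁ h a' c e hk v t ht

/-- Tame quotients: good modifications. -/
theorem hasGood_tame (hK : K97.Acyclic.Key k) {X X' : Scheme.{u}} [IsIntegral X] [IsIntegral X']
    (a : X ⟶ Spec (CommRingCat.of k)) [LocallyOfFiniteType a] [QuasiCompact a] [QuasiSeparated a]
    (hX : Pi1.IsNormalScheme X) (f' : X' ⟶ X) [Smooth (f' ≫ a)] [IsFinite f'] [Surjective f']
    (hdeg : ((f'.residueDegree (genericPoint X') : ℕ) : k) ≠ 0) : HasGood X := by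
  have : CompactSpace X := QuasiCompact.compactSpace_of_compactSpace a
  have : QuasiSeparatedSpace X := quasiSeparatedSpace_of_quasiSeparated a
  exact hasGood_of_hasKill hX (hasKill_of_finite k a f' (SmoothKill.hasKill_smooth k hK (f' ≫ a)) hdeg)

end Groth.Agent.RatRes.K383.TameKill
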